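import Groth.Agent.ResProp.EF.K280.GenN
import Groth.Agent.ResProp.EF.K588.Block

/-!
# Putting the generators of the graded pieces of degree 1 and 2 together
-/

set_option autoImplicit false
set_option linter.unusedSectionVars false

universe u

open TensorProduct MvPolynomial

namespace Groth.Agent.ResProp.EF.K280

open Groth.Agent.ResProp.EF.K863 Groth.Agent.ResProp.EF.K980
open Groth.Agent.ResProp.EF.K964 (mBC ppMap rhoBC)
open Groth.Agent.ResProp.EF.K567 (dHom WPres WCond)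
open Groth.Agent.ResProp.EF.K884.MatPt (IsMC)

section mat

variable {k : Type u} [CommRing k] {H : Grp.Gp k} {ι κ : Type} [Fintype ι] [DecidableEq ι] [Fintype κ] [DecidableEq κ]

theorem isMC_blocks {C : Matrix ι ι H.O} (hC : IsMC C) {C' : Matrix κ κ H.O} (hC' : IsMC C') :
    IsMC (Matrix.fromBlocks C 0 0 C') where
  comul i j := by
    rw [Fintype.sum_sum_type]
    rcases i with i | i <;> rcases j with j | j
    · simp only [Matrix.fromBlocks_apply₁₁, Matrix.fromBlocks_apply₁₂, Matrix.fromBlocks_apply₂₁, Matrix.zero_apply,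
        TensorProduct.zero_tmul, Finset.sum_const_zero, add_zero]
      exact hC.comul i j
    · simp
    · simp
    · simp only [Matrix.fromBlocks_apply₂₂, Matrix.fromBlocks_apply₁₂, Matrix.fromBlocks_apply₂₁, Matrix.zero_apply,
        TensorProduct.zero_tmul, Finset.sum_const_zero, zero_add]
      exact hC'.comul i j
  counit i j := by
    rcases i with i | i <;> rcases j with j | j
    · simp only [Matrix.fromBlocks_apply₁₁, hC.counit, Sum.inl.injEq]
    · simp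
    · simp
    · simp only [Matrix.fromBlocks_apply₂₂, hC'.counit, Sum.inr.injEq]

theorem isMC_reindex (E : κ ≃ ι) {C : Matrix ι ι H.O} (hC : IsMC C) : IsMC (C.submatrix E E) where
  comul i j := by
    rw [Matrix.submatrix_apply, hC.comul, ← E.sum_comp]
    rfl
  counit i j := by
    rw [Matrix.submatrix_apply, hC.counit]
    simp only [E.injective.eq_iff]

end mat

section

variable {k : Type u} [CommRing k] {H : Grp.Gp k} {R : Type u} [CommRing R] {D : Type u} [CommRing D] [Algebra R D]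
  {V : Type u} [AddCommGroup V] [Module D V] [Module R V] [IsScalarTower R D V] {ρ : V →ₗ[D] Ω[D⁄R]}
  {m : Model R D V ρ} {R' : Type u} [CommRing R'] {x y : R →+* R'} {a : IsoDat ρ x y} {θ : H.O →+* R'}

/-- generation of a graded piece in terms of elements -/
theorem GenN.exists_coef {n : ℕ} (G : GenN m a θ n) (z : m.PP) (hz : z ∈ m.Fil n) :
    ∃ b : Fin G.r → m.PP, z - ∑ j, G.u j * b j ∈ m.Fil (n + 1) := by
  exact K588.Block.exists_of_span (fun i => (⟨G.u i, G.hu i⟩ : m.Fil n)) G.span z hz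

variable (G₁ : GenN m a θ 1) (G₂ : GenN m a θ 2)

/-- the index set -/
abbrev bE : Fin (G₁.r + G₂.r) ≃ Fin G₁.r ⊕ Fin G₂.r := finSumFinEquiv.symm

/-- the weights -/
def bwt (i : Fin (G₁.r + G₂.r)) : ℕ := Sum.elim (fun _ : Fin G₁.r => 1) (fun _ : Fin G₂.r => 2) (bE G₁ G₂ i)

/-- the elements -/
noncomputable def bu (i : Fin (G₁.r + G₂.r)) : m.PP := Sum.elim G₁.u G₂.u (bE G₁ G₂ i)

/-- the matrix -/
noncomputable def bM : Matrix (Fin (G₁.r + G₂.r)) (Fin (G₁.r + G₂.r)) H.O :=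
  (Matrix.fromBlocks G₁.M 0 0 G₂.M).submatrix (bE G₁ G₂) (bE G₁ G₂)

theorem isMC_bM : IsMC (bM G₁ G₂) := isMC_reindex (bE G₁ G₂) (isMC_blocks G₁.hM G₂.hM)

theorem bwt1 (i : Fin (G₁.r + G₂.r)) : 1 ≤ bwt G₁ G₂ i := by
  unfold bwt
  rcases bE G₁ G₂ i with i | i
  · exact le_rfl
  · exact one_le_two

theorem bwt2 (i : Fin (G₁.r + G₂.r)) : bwt G₁ G₂ i ≤ 2 := by
  unfold bwt
  rcases bE G₁ G₂ i with i | i
  · exact one_le_two
  · exact le_rfl

theorem bu_mem (i : Fin (G₁.r + G₂.r)) : bu G₁ G₂ i ∈ m.Fil (bwt G₁ G₂ i) := by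
  unfold bwt bu
  rcases bE G₁ G₂ i with i | i
  · exact G₁.hu i
  · exact G₂.hu i

theorem bM_wt {i j : Fin (G₁.r + G₂.r)} (h : bwt G₁ G₂ i ≠ bwt G₁ G₂ j) : bM G₁ G₂ i j = 0 := by
  revert h
  unfold bwt bM
  rw [Matrix.submatrix_apply]
  rcases bE G₁ G₂ i with i | i <;> rcases bE G₁ G₂ j with j | j
  · exact fun h => absurd rfl h
  · exact fun _ => rfl
  · exact fun _ => rfl
  · exact fun h => absurd rfl h

theorem bM_WPres {S : Type*} [CommRing S] (f : H.O →+* S) : WPres (bwt G₁ G₂) ((bM G₁ G₂).map f) := fun i j h => by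
  rw [Matrix.map_apply, bM_wt G₁ G₂ h, map_zero]

theorem bg (n : ℕ) (hn : n = 1 ∨ n = 2) (z : m.PP) (hz : z ∈ m.Fil n) : ∃ b : Fin (G₁.r + G₂.r) → m.PP,
    (∀ j, b j ∈ m.Fil (n - bwt G₁ G₂ j)) ∧ z - ∑ j, bu G₁ G₂ j * b j ∈ m.Fil (n + 1) := by
  rcases hn with rfl | rfl
  · obtain ⟨b, hb⟩ := G₁.exists_coef z hz
    refine ⟨fun i => Sum.elim b (fun _ => 0) (bE G₁ G₂ i), fun j => ?_, ?_⟩
    · have : 1 - bwt G₁ G₂ j = 0 := by have := bwt1 G₁ G₂ j; omega
      rw [this, m.Fil_zero]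
      trivial
    · have e1 : ∑ j, bu G₁ G₂ j * Sum.elim b (fun _ => 0) (bE G₁ G₂ j) =
          ∑ s : Fin G₁.r ⊕ Fin G₂.r, Sum.elim G₁.u G₂.u s * Sum.elim b (fun _ => 0) s :=
        (bE G₁ G₂).sum_comp fun s => Sum.elim G₁.u G₂.u s * Sum.elim b (fun _ => 0) s
      rw [e1, Fintype.sum_sum_type]
      simp only [Sum.elim_inl, Sum.elim_inr, mul_zero, Finset.sum_const_zero, add_zero]
      exact hb
  · obtain ⟨b, hb⟩ := G₂.exists_coef z hz
    refine ⟨fun i => Sum.elim (fun _ => 0) b (bE G₁ G₂ i), fun j => ?_, ?_⟩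
    · change Sum.elim (fun _ => 0) b (bE G₁ G₂ j) ∈ _
      unfold bwt
      rcases bE G₁ G₂ j with j | j
      · exact Ideal.zero_mem _
      · change _ ∈ m.Fil 0
        rw [m.Fil_zero]
        trivial
    · have e1 : ∑ j, bu G₁ G₂ j * Sum.elim (fun _ => 0) b (bE G₁ G₂ j) =
          ∑ s : Fin G₁.r ⊕ Fin G₂.r, Sum.elim G₁.u G₂.u s * Sum.elim (fun _ => 0) b s :=
        (bE G₁ G₂).sum_comp fun s => Sum.elim G₁.u G₂.u s * Sum.elim (fun _ => 0) b s
      rw [e1, Fintype.sum_sum_type]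
      simp only [Sum.elim_inl, Sum.elim_inr, mul_zero, Finset.sum_const_zero, zero_add]
      exact hb

/-- the condition on the symbols -/
theorem b_cond : WCond m (bwt G₁ G₂) (bu G₁ G₂) a ((bM G₁ G₂).map θ) := by
  intro φ hφ i
  have e1 : ∑ j, ((bM G₁ G₂).map θ) j i • ppMap y m (bu G₁ G₂ j) =
      ∑ s : Fin G₁.r ⊕ Fin G₂.r, θ (Matrix.fromBlocks G₁.M 0 0 G₂.M s (bE G₁ G₂ i)) •
        ppMap y m (Sum.elim G₁.u G₂.u s) :=
    (bE G₁ G₂).sum_comp fun s => θ (Matrix.fromBlocks G₁.M 0 0 G₂.M s (bE G₁ G₂ i)) •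
      ppMap y m (Sum.elim G₁.u G₂.u s)
  rw [e1, Fintype.sum_sum_type]
  unfold bwt
  change φ (ppMap x m (Sum.elim G₁.u G₂.u (bE G₁ G₂ i))) - _ ∈ _
  rcases bE G₁ G₂ i with i | i
  · simp only [Sum.elim_inl, Sum.elim_inr, Matrix.fromBlocks_apply₁₁, Matrix.fromBlocks_apply₂₁, Matrix.zero_apply,
      map_zero, zero_smul, Finset.sum_const_zero, add_zero]
    exact G₁.cond φ hφ i
  · simp only [Sum.elim_inl, Sum.elim_inr, Matrix.fromBlocks_apply₁₂, Matrix.fromBlocks_apply₂₂, Matrix.zero_apply,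
      map_zero, zero_smul, Finset.sum_const_zero, zero_add]
    exact G₂.cond φ hφ i

end

end Groth.Agent.ResProp.EF.K280
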