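import Groth.Agent.ResProp.EF.K863.LPFlat

/-!
# The symbol of the lifts `LP` of an arrow (bridge from the models to `BC x (PP / Fil n)`)
-/

set_option autoImplicit false

universe u v w

open MvPolynomial

namespace Groth.Agent.ResProp.EF.K280

open Groth.Agent.ResProp.EF.K980 Groth.Agent.ResProp.EF.K863
open Groth.Agent.ResProp.EF.K964 (mBC ppMap rhoBC)

section

variable {R : Type u} {R' : Type v} [CommRing R] [CommRing R'] {D : Type w} [CommRing D] [Algebra R D]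
  {V : Type*} [AddCommGroup V] [Module D V] [Module R V] [IsScalarTower R D V] {ρ : V →ₗ[D] Ω[D⁄R]}
  {x y : R →+* R'}

/-- the map of data of an arrow -/
noncomputable def isoHom (a : IsoDat ρ x y) : DatumHom (rhoBC x ρ) (rhoBC y ρ) :=
  toDatumHom a.eta a.etaV a.map_smul (fun v d => (a.compat v d).1)

theorem isInv_isoHom (a : IsoDat ρ x y) : (isoHom a).IsInv (isoHom a.symm) :=
  isInv_toDatumHom a.eta a.etaV a.map_smul (fun v d => (a.compat v d).1) a.symm.map_smul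
    (fun v d => (a.symm.compat v d).1)

/-- **existence of a lift with a given symbol** -/
theorem exists_LP_near {m : Model R D V ρ} {n : ℕ} (hn : 2 ≤ n) (hx : x.Flat) (hy : y.Flat) (a : IsoDat ρ x y)
    {e : ℕ} (w : Fin e → ℕ) (u : Fin e → m.PP) (M : Matrix (Fin e) (Fin e) R')
    (cond : ∀ φ : (mBC x m).PP →ₐ[R'] (mBC y m).PP, IsModelHom (isoHom a) φ → ∀ i,
      φ (ppMap x m (u i)) - ∑ j, M j i • ppMap y m (u j) ∈ (mBC y m).Fil (w i + 1)) :
    ∃ φ ∈ LP m hn a, ∀ i, φ (bc x (Ideal.Quotient.mk (m.Fil n) (u i))) -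
      ∑ j, M j i • bc y (Ideal.Quotient.mk (m.Fil n) (u j)) ∈ FilBC m y (w i + 1) := by
  obtain ⟨Φ, hΦ⟩ := exists_modelHom (mBC x m) (mBC y m) (isoHom a)
  have hc := cond Φ hΦ
  have hθ : IsQHom hn (isoHom a) (hΦ.mapQ n) := hΦ.isQHom hn
  let θ : (mBC x m).Q n ≃ₐ[R'] (mBC y m).Q n := hΦ.equivQ (isInv_isoHom a) n
  have hθe : ∀ q, θ q = hΦ.mapQ n q := hΦ.equivQ_apply (isInv_isoHom a) n
  let ex : BC x (m.Q n) ≃ₐ[R'] (mBC x m).Q n := K964.eQE x m hx n
  let ey : BC y (m.Q n) ≃ₐ[R'] (mBC y m).Q n := K964.eQE y m hy n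
  have fx : ∀ q, (mBC x m).fQ (one_le_two.trans hn) (ex q) = fB m hn x q := (bcModel m hn hx).f_e
  have fy : ∀ q, (mBC y m).fQ (one_le_two.trans hn) (ey q) = fB m hn y q := (bcModel m hn hy).f_e
  have dx : ∀ q, (mBC x m).dQ hn (ex q) = dB m hn x q := (bcModel m hn hx).d_e
  have dy : ∀ q, (mBC y m).dQ hn (ey q) = dB m hn y q := (bcModel m hn hy).d_e
  have ly : ∀ p q, ey q ∈ (mBC y m).FilQ n p ↔ q ∈ FilBC m y p := (bcModel m hn hy).fil_e
  have exm : ∀ z : m.PP, ex (bc x (Ideal.Quotient.mk (m.Fil n) z)) =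
      Ideal.Quotient.mk ((mBC x m).Fil n) (ppMap x m z) := fun z => by
    change K964.eQ x m n (bc x (Ideal.Quotient.mk (m.Fil n) z)) = _
    rw [K964.eQ_bc]
    rfl
  have eym : ∀ z : m.PP, ey (bc y (Ideal.Quotient.mk (m.Fil n) z)) =
      Ideal.Quotient.mk ((mBC y m).Fil n) (ppMap y m z) := fun z => by
    change K964.eQ y m n (bc y (Ideal.Quotient.mk (m.Fil n) z)) = _
    rw [K964.eQ_bc]
    rfl
  have key : ∀ q, ey (((ex.trans θ).trans ey.symm) q) = hΦ.mapQ n (ex q) := fun q => by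
    rw [AlgEquiv.trans_apply, AlgEquiv.trans_apply, AlgEquiv.apply_symm_apply, hθe]
  refine ⟨(ex.trans θ).trans ey.symm, ⟨fun q => ?_, fun q => ?_⟩, fun i => ?_⟩
  · have h := hθ.f_eq (ex q)
    rw [fx] at h
    rw [← fy, key]
    exact h
  · have h := hθ.d_eq (ex q)
    rw [dx] at h
    rw [← dy, key]
    exact h
  · rw [← ly, map_sub, key, exm, map_sum]
    have e1 : ∑ j, ey (M j i • bc y (Ideal.Quotient.mk (m.Fil n) (u j))) =
        Ideal.Quotient.mk ((mBC y m).Fil n) (∑ j, M j i • ppMap y m (u j)) := by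
      rw [map_sum]
      refine Finset.sum_congr rfl fun j _ => ?_
      rw [map_smul, eym]
      rfl
    rw [e1]
    exact Model.mem_FilQ.2 ⟨_, hc i, map_sub _ _ _⟩

end

end Groth.Agent.ResProp.EF.K280
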