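import Groth.Agent.ResProp.EF.K280.Amp
import Groth.Agent.ResProp.EF.K280.NGr

/-!
# The last step of the producer: `ProdIn c → ALGOut c`
-/

set_option autoImplicit false
set_option linter.unusedSectionVars false

universe u

open CategoryTheory Opposite TensorProduct MvPolynomial
open K784.BC K784.PM K741.RP

namespace Groth.Agent.ResProp.EF.K280

open Groth.Agent.ResProp.EF.K734 Groth.Agent.ResProp.EF.K379
open Groth.Agent.ResProp.EF.K863 (Model datAlg datGpd IsModelHom IsoDat)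
open Groth.Agent.ResProp.EF.K980 (PGpd AlgPkg BC EqAlg OpCpx ALGOut EtaMatch Lev StmtProd)
open Groth.Agent.ResProp.EF.K964 (mBC ppMap rhoBC)
open Groth.Agent.ResProp.EF.Arch Groth.Agent.ResProp.EF.Grp EF56 Groth.Agent.ResProp.EF.K294

/-- A model with weighted elements `u i` generating the graded pieces, and a groupoid of points acting on the
datum and on the symbols of the `u i` (independent of the truncation `k`). -/
structure SymIn {R : Type u} [CommRing R] {D : Type u} [CommRing D] [Algebra R D] {V : Type u} [AddCommGroup V]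
    [Module D V] [Module R V] [IsScalarTower R D V] {ρ : V →ₗ[D] Ω[D⁄R]} (m : Model R D V ρ) (G : PGpd.{u} R) where
  /-- the number of generators -/
  e : ℕ
  /-- the weights -/
  wt : Fin e → ℕ
  wt1 : ∀ i, 1 ≤ wt i
  wt2 : ∀ i, wt i ≤ 2
  /-- the elements -/
  u : Fin e → m.PP
  hu : ∀ i, u i ∈ m.Fil (wt i)
  hg : ∀ n, n = 1 ∨ n = 2 → ∀ x ∈ m.Fil n, ∃ b : Fin e → m.PP, (∀ j, b j ∈ m.Fil (n - wt j)) ∧
    x - ∑ j, u j * b j ∈ m.Fil (n + 1)
  /-- the functor to the isomorphisms of the datum -/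
  F : PGpd.Fun G (datGpd m)
  /-- the symbol -/
  N : ∀ {R' : Type u} [CommRing R'] {x y : R →+* R'}, G.Hom x y → Matrix (Fin e) (Fin e) R'
  N_id : ∀ {R' : Type u} [CommRing R'] (x : R →+* R'), N (G.id x) = 1
  N_comp : ∀ {R' : Type u} [CommRing R'] {x y z : R →+* R'} (a : G.Hom x y) (b : G.Hom y z),
    N (G.comp a b) = N b * N a
  N_pull : ∀ {R' R'' : Type u} [CommRing R'] [CommRing R''] (f : R' →+* R'') {x y : R →+* R'} {x' y' : R →+* R''}
    (hx : f.comp x = x') (hy : f.comp y = y') (a : G.Hom x y), N (G.pull f hx hy a) = (N a).map f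
  N_wt : ∀ {R' : Type u} [CommRing R'] {x y : R →+* R'} (a : G.Hom x y) (i j : Fin e), N a i j ≠ 0 → wt i = wt j
  cond : ∀ {R' : Type u} [CommRing R'] {x y : R →+* R'} (a : G.Hom x y), x.Flat → y.Flat →
    ∀ φ : (mBC x m).PP →ₐ[R'] (mBC y m).PP, IsModelHom (isoHom (show IsoDat ρ x y from F.app a)) φ → ∀ i,
      φ (ppMap x m (u i)) - ∑ j, N a j i • ppMap y m (u j) ∈ (mBC y m).Fil (wt i + 1)

namespace SymIn

variable {R : Type u} [CommRing R] {D : Type u} [CommRing D] [Algebra R D] {V : Type u} [AddCommGroup V]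
    [Module D V] [Module R V] [IsScalarTower R D V] {ρ : V →ₗ[D] Ω[D⁄R]} {m : Model R D V ρ} {G : PGpd.{u} R}
    (Y₀ : SymIn m G)

/-- helper379's input for the truncation `k` -/
noncomputable def symData {k : ℕ} (hn : 2 ≤ k + 1) : SymData m hn Y₀.wt Y₀.u G where
  F := Y₀.F
  N := Y₀.N
  N_id := Y₀.N_id
  N_comp := Y₀.N_comp
  N_pull := Y₀.N_pull
  N_wt a i j := Y₀.N_wt a i j
  N_gr a hx hy := exists_LP_near hn hx hy (Y₀.F.app a) Y₀.wt Y₀.u (Y₀.N a) (Y₀.cond a hx hy)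

/-- **the package with its amplitude** -/
theorem exists_pkg [IsNoetherianRing R] : ∃ X : AlgPkg G, ∃ i : X.D ≃ₐ[R] D,
    (∀ {R' : Type u} [CommRing R'] {x y : R →+* R'} (a : G.Hom x y) (v : BC x D),
      BC.map y i.toLinearMap (X.eta.act a (BC.map x i.symm.toLinearMap v)) = (Y₀.F.app a).eta v) ∧
    Nonempty X.toOpCpx.Amp := by
  obtain ⟨k₀, hk₀⟩ := exists_amp Y₀.hu Y₀.wt1 Y₀.wt2 Y₀.hg
  have hn : 2 ≤ (max k₀ 1) + 1 := by have := le_max_right k₀ 1; omega
  refine ⟨algPkg (Y₀.symData hn) Y₀.hu Y₀.wt1 Y₀.wt2 Y₀.hg, AlgEquiv.refl, fun {R'} _ {x y} a v => ?_,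
    hk₀ _ (le_max_left _ _) hn G (Y₀.symData hn)⟩
  have e : ∀ {z : R →+* R'} (w : BC z D), BC.map z (AlgEquiv.refl : D ≃ₐ[R] D).toLinearMap w = w := fun w =>
    LinearMap.congr_fun BC.map_id w
  exact (e _).trans (congrArg _ (e v))

end SymIn

section

variable {k : Type u} [CommRing k] {A : NFᵒᵖ ⥤ CommRingCat.{u}} [GRF k A] {x : PrimeSpectrum (A.obj (op ⟨0⟩))}
  (c : CoverDatum k A x)

/-- **the input of the last step of the producer** -/
structure ProdIn : Type (u + 1) where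
  V : Type u
  [agV : AddCommGroup V]
  [mDV : Module (c.Y.D.obj (op ⟨0⟩)) V]
  [mRV : Module (A.obj (op ⟨0⟩)) V]
  [stV : IsScalarTower (A.obj (op ⟨0⟩)) (c.Y.D.obj (op ⟨0⟩)) V]
  ρ : V →ₗ[c.Y.D.obj (op ⟨0⟩)] Ω[(c.Y.D.obj (op ⟨0⟩))⁄(A.obj (op ⟨0⟩))]
  m : Model (A.obj (op ⟨0⟩)) (c.Y.D.obj (op ⟨0⟩)) V ρ
  P : PGpd.{u} (A.obj (op ⟨0⟩))
  sym : SymIn m P
  lev : Lev k A (K208.pts c.H) P
  eta_match : EtaMatch c lev (fun {_} [CommRing _] {_ _} a v => (sym.F.app a).eta v)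

attribute [instance] ProdIn.agV ProdIn.mDV ProdIn.mRV ProdIn.stV

theorem isNoeth (p : ℕ) [IsLb p k] : IsNoetherianRing (A.obj (op ⟨0⟩)) := by
  have := IsLb.pid (p := p) (k := k)
  have : Algebra.FiniteType k (A.obj (op ⟨0⟩)) := GRF.ft
  exact Algebra.FiniteType.isNoetherianRing k _

/-- **the output of the producer** -/
theorem ProdIn.out (p : ℕ) [IsLb p k] (I : ProdIn c) : Nonempty (ALGOut c) := by
  have : IsNoetherianRing (A.obj (op ⟨0⟩)) := isNoeth (k := k) p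
  obtain ⟨X, i, h, ⟨am⟩⟩ := I.sym.exists_pkg
  refine ⟨{ P := I.P, lev := I.lev, X := X, iD := i, eta_match := ?_, amp := am }⟩
  intro B _ _ _ n i j h' d
  rw [← I.eta_match B n i j h' d]
  exact congrArg _ (h _ _)

end

/-- **StmtProd** from its input -/
theorem stmtProd_of (H : ∀ (p : ℕ) (k : Type u) [CommRing k] [IsLb p k] (A : NFᵒᵖ ⥤ CommRingCat.{u}) [GRF k A]
    (x : PrimeSpectrum (A.obj (op ⟨0⟩))) (c : CoverDatum k A x), Nonempty (ProdIn c)) : StmtProd.{u} := by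
  intro p k _ _ A _ x c
  obtain ⟨I⟩ := H p k A x c
  exact I.out c p

end Groth.Agent.ResProp.EF.K280
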