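import Groth.Agent.ResProp.EF.K280.VData
import Groth.Agent.ResProp.EF.K280.Block
import Groth.Agent.ResProp.EF.K884.ProdW

/-!
# `StmtProd` from the equivariant generators of the graded pieces (`StmtGen`)
-/

set_option autoImplicit false
set_option linter.unusedSectionVars false
set_option linter.style.haveILetI false

universe u

open CategoryTheory Opposite TensorProduct

noncomputable section

namespace Groth.Agent.ResProp.EF.K280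

open K784.BC K784.PM K741.RP EF56 Groth.Agent.ResProp.EF.Grp Groth.Agent.ResProp.EF.Arch
open Groth.Agent.ResProp.EF.K980 (StmtProd)
open Groth.Agent.ResProp.EF.K86 (omPM omk omC)
open Groth.Agent.ResProp.EF.K863 (Model)
open Groth.Agent.ResProp.EF.K567 (rhoOf)
open Groth.Agent.ResProp.EF.K884.MatPt (IsMC)
open Groth.Agent.ResProp.EF.K884.EtaD (upt)
open Groth.Agent.ResProp.EF.K884.LevPM (inb)
open Groth.Agent.ResProp.EF.K884.LevW (dIso)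

/-- **GrGen**: the graded pieces of degree `n` of a model of `(D, ι → D, ω)` have equivariant generators. -/
def StmtGen : Prop := ∀ (p : ℕ) (k : Type u) [CommRing k] [IsLb p k] (A : NFᵒᵖ ⥤ CommRingCat.{u}) [GRF k A]
  (x : PrimeSpectrum (A.obj (op ⟨0⟩))) (c : CoverDatum k A x) (ι : Type) [Fintype ι] [DecidableEq ι]
  (C : Matrix ι ι c.H.O) (hC : IsMC C) (ω : ι → Ω[(c.Y.D.obj (op ⟨0⟩))⁄(A.obj (op ⟨0⟩))])
  (hinv : ∀ l, (omPM c.Y.j).map (pr ⟨0⟩) (show (omPM c.Y.j).obj ⟨0⟩ from ω l) =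
    (omPM c.Y.j).map (lst ⟨0⟩) (show (omPM c.Y.j).obj ⟨0⟩ from ω l))
  (hco : letI := omk c ⟨0⟩; ∀ l, (omC c ⟨0⟩).coact (show (omPM c.Y.j).obj ⟨0⟩ from ω l) =
    ∑ m, (show (omPM c.Y.j).obj ⟨0⟩ from ω m) ⊗ₜ[k] C m l)
  (m : Model (A.obj (op ⟨0⟩)) (c.Y.D.obj (op ⟨0⟩)) (ι → c.Y.D.obj (op ⟨0⟩)) (rhoOf ω)) (n : ℕ),
  Nonempty (GenN m (dIso c hC hinv hco c.H.O 1 0 1 (upt c.H)) (inb k A c.H.O 1) n)

theorem stmtProd_of_gen (h : StmtGen.{u}) : StmtProd.{u} := by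
  refine stmtProd_of fun p k _ _ A _ x c => ?_
  obtain ⟨ι, _, _, w, C, hC, hinv, hco, ⟨m⟩⟩ := exists_vdata c p
  let ω : ι → Ω[(c.Y.D.obj (op ⟨0⟩))⁄(A.obj (op ⟨0⟩))] := w
  let m' : Model (A.obj (op ⟨0⟩)) (c.Y.D.obj (op ⟨0⟩)) (ι → c.Y.D.obj (op ⟨0⟩)) (rhoOf ω) := m
  obtain ⟨G₁⟩ := h p k A x c ι C hC ω hinv hco m' 1
  obtain ⟨G₂⟩ := h p k A x c ι C hC ω hinv hco m' 2
  exact ⟨K884.ProdW.prodW c hC hinv hco (bu_mem G₁ G₂) (isMC_bM G₁ G₂) (fun i j h => bM_wt G₁ G₂ h)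
    (b_cond G₁ G₂) (bwt1 G₁ G₂) (bwt2 G₁ G₂) (bg G₁ G₂)⟩

end Groth.Agent.ResProp.EF.K280
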