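import Groth.Agent.ResProp.EF.K379.LiftData
import Groth.Agent.ResProp.EF.K454.AmpTor
import Groth.Agent.ResProp.EF.K734.KozAmp

/-!
# `OpCpx.Amp` of the algebra package of a model
-/

set_option autoImplicit false
set_option linter.unusedSectionVars false

universe u

namespace Groth.Agent.ResProp.EF.K280

open Groth.Agent.ResProp.EF.K734 Groth.Agent.ResProp.EF.K379
open Groth.Agent.ResProp.EF.K863 (Model datAlg datGpd)
open Groth.Agent.ResProp.EF.K980 (PGpd AlgPkg BC EqAlg OpCpx)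
open Groth.Agent.ResProp.EF.K454 (mfQ exists_k0_torGE kozGr tor_of_kozFD)
open Groth.Agent.ResProp.EF.K294 (TorGE)

variable {R : Type u} [CommRing R] {D : Type u} [CommRing D] [Algebra R D] {V : Type u} [AddCommGroup V]
  [Module D V] [Module R V] [IsScalarTower R D V] {ρ : V →ₗ[D] Ω[D⁄R]} {m : Model R D V ρ}
  {e : ℕ} {wt : Fin e → ℕ} {u : Fin e → m.PP}

section

variable {k : ℕ} {hn : 2 ≤ k + 1} {G : PGpd.{u} R} [IsNoetherianRing R] (W : SymData m hn wt u G)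
  (hu : ∀ i, u i ∈ m.Fil (wt i)) (h1 : ∀ i, 1 ≤ wt i) (h2 : ∀ i, wt i ≤ 2)
  (hg : ∀ n, n = 1 ∨ n = 2 → ∀ x ∈ m.Fil n, ∃ b : Fin e → m.PP, (∀ j, b j ∈ m.Fil (n - wt j)) ∧
    x - ∑ j, u j * b j ∈ m.Fil (n + 1))

theorem pi_zero (x : m.Q (k + 1)) (hx : x ∈ (mfQ m (k + 1)).F 1) : SymData.π m hn x = 0 :=
  (m.fQ_eq_zero_iff _).2 hx

/-- the augmentation and the Tor-amplitude -/
noncomputable def amp (htor : TorGE (-e : ℤ) (kozGr R (mfQ m (k + 1)) (wtFil (mfQ m (k + 1)) wt)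
    (dualOf (uQ m u k)) (dualOf_mem _ wt (uQ_mem m wt u hu)) k).cx) :
    (algPkg W hu h1 h2 hg).toOpCpx.Amp where
  aug := kozAug (R := R) (mfQ m (k + 1)) (wtFil (mfQ m (k + 1)) wt) k (SymData.π m hn) (pi_zero (hn := hn))
  aug_surj := kozAug_surj (R := R) (mfQ m (k + 1)) (wtFil (mfQ m (k + 1)) wt) k (SymData.π m hn)
    (pi_zero (hn := hn)) (m.fQ_surjective _)
  aug_d := kozAug_d (R := R) (mfQ m (k + 1)) (wtFil (mfQ m (k + 1)) wt) (dualOf (uQ m u k))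
    (dualOf_mem _ wt (uQ_mem m wt u hu)) k (SymData.π m hn) (pi_zero (hn := hn))
    (dualOf_mem_one (mfQ m (k + 1)) (uQ_mem m wt u hu) h1)
  aug_pr := kozAug_pr (R := R) (mfQ m (k + 1)) (wtFil (mfQ m (k + 1)) wt) (dualOf (uQ m u k))
    (dualOf_mem _ wt (uQ_mem m wt u hu)) k (SymData.π m hn) (pi_zero (hn := hn))
  tor := tor_of_kozFD (algPkg W hu h1 h2 hg).toOpCpx rfl (LinearEquiv.refl R _) (fun _ => rfl) (fun _ _ => rfl) htor

end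

/-- **`k₀`**: for `k ≥ k₀` the package has Tor-amplitude `[-e, 0]`. -/
theorem exists_amp [IsNoetherianRing R] (hu : ∀ i, u i ∈ m.Fil (wt i)) (h1 : ∀ i, 1 ≤ wt i) (h2 : ∀ i, wt i ≤ 2)
    (hg : ∀ n, n = 1 ∨ n = 2 → ∀ x ∈ m.Fil n, ∃ b : Fin e → m.PP, (∀ j, b j ∈ m.Fil (n - wt j)) ∧
      x - ∑ j, u j * b j ∈ m.Fil (n + 1)) :
    ∃ k₀ : ℕ, ∀ k, k₀ ≤ k → ∀ (hn : 2 ≤ k + 1) (G : PGpd.{u} R) (W : SymData m hn wt u G),
      Nonempty (algPkg W hu h1 h2 hg).toOpCpx.Amp := by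
  obtain ⟨k₀, hk₀⟩ := exists_k0_torGE m wt h1 h2 u hu hg
  exact ⟨k₀, fun k hk hn G W => ⟨amp W hu h1 h2 hg (hk₀ k hk (uQ_mem m wt u hu))⟩⟩

end Groth.Agent.ResProp.EF.K280
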