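import Groth.Agent.ResProp.EF.K734.Ops

/-!
# Pull-back of helper734's `FD` along a ring map, with strict functoriality of operators

`bc X f : FD R₁ I` for `X : FD R I`, `f : R →+* R₁`.  Every map is characterized on the images of
`X.P`, `X.K`, so compositions are strict.
-/

set_option autoImplicit false
set_option linter.style.haveILetI false
set_option linter.unusedVariables false

universe u v

namespace Groth.Agent.ResProp.EF.K280

open Groth.Agent.ResProp.EF.K734 TensorProduct

variable {R R₁ R₂ R₃ : Type u} [CommRing R] [CommRing R₁] [CommRing R₂] [CommRing R₃] {I : Type}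

section alg

variable (R₁) [Algebra R R₁] (X : FD R I)

/-- the action of `R₁ ⊗ P` on `R₁ ⊗ K` -/
noncomputable def actHom : (R₁ ⊗[R] X.P) →ₐ[R₁] Module.End R₁ (R₁ ⊗[R] X.K) :=
  Algebra.TensorProduct.lift (Algebra.ofId R₁ _)
    ((Module.End.baseChangeHom R R₁ X.K).comp (Algebra.lsmul R R X.K))
    (fun r _ => Algebra.commutes r _)

theorem actHom_tmul (r : R₁) (p : X.P) (s : R₁) (v : X.K) :
    actHom R₁ X (r ⊗ₜ p) (s ⊗ₜ v) = (r * s) ⊗ₜ (p • v) := by
  have h : actHom R₁ X (r ⊗ₜ p) = (Algebra.ofId R₁ (Module.End R₁ (R₁ ⊗[R] X.K)) r) *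
    ((Module.End.baseChangeHom R R₁ X.K).comp (Algebra.lsmul R R X.K)) p :=
    Algebra.TensorProduct.lift_tmul _ _ _ _ _
  rw [h]
  change r • (((Module.End.baseChangeHom R R₁ X.K).comp (Algebra.lsmul R R X.K)) p (s ⊗ₜ[R] v)) = _
  change r • (s ⊗ₜ[R] (p • v)) = _
  rw [TensorProduct.smul_tmul', smul_eq_mul]

/-- the tensor product as a module over the tensor product of the rings -/
noncomputable abbrev modPK : Module (R₁ ⊗[R] X.P) (R₁ ⊗[R] X.K) :=
  Module.compHom _ (actHom R₁ X).toRingHom

theorem tower : (letI := modPK R₁ X; IsScalarTower R₁ (R₁ ⊗[R] X.P) (R₁ ⊗[R] X.K)) :=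
  letI := modPK R₁ X
  ⟨fun r x w => by
    change actHom R₁ X (r • x) w = r • (actHom R₁ X x w)
    rw [map_smul, LinearMap.smul_apply]⟩

/-- the operators -/
noncomputable def opA (i : I) :
    (letI := modPK R₁ X; (R₁ ⊗[R] X.K) →ₗ[R₁ ⊗[R] X.P] (R₁ ⊗[R] X.K)) :=
  letI := modPK R₁ X
  { toFun := (X.op i |>.restrictScalars R).baseChange R₁
    map_add' := map_add _
    map_smul' := fun x w => by
      rw [RingHom.id_apply]
      change _ = actHom R₁ X x _
      change ((X.op i |>.restrictScalars R).baseChange R₁) (actHom R₁ X x w) = _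
      induction w using TensorProduct.induction_on with
      | zero => simp
      | add a b ha hb => simp only [map_add, ha, hb]
      | tmul s v =>
        induction x using TensorProduct.induction_on with
        | zero => simp
        | add a b ha hb => simp only [map_add, LinearMap.add_apply, ha, hb]
        | tmul r p =>
          rw [actHom_tmul, LinearMap.baseChange_tmul, LinearMap.baseChange_tmul, actHom_tmul]
          simp }

/-- the pull-back of `X`, algebra form -/
noncomputable def bcA : FD R₁ I :=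
  letI := modPK R₁ X
  haveI := tower R₁ X
  { P := R₁ ⊗[R] X.P
    K := R₁ ⊗[R] X.K
    k := X.k
    Fil := fun n => (X.Fil n).map (Algebra.TensorProduct.includeRight : X.P →ₐ[R] R₁ ⊗[R] X.P)
    Fil_zero := by rw [X.Fil_zero, Ideal.map_top]
    Fil_succ := fun n => Ideal.map_mono (X.Fil_succ n)
    Fil_mul := fun m n x y hx hy => by
      have h : (X.Fil m).map (Algebra.TensorProduct.includeRight : X.P →ₐ[R] R₁ ⊗[R] X.P) *
          (X.Fil n).map (Algebra.TensorProduct.includeRight : X.P →ₐ[R] R₁ ⊗[R] X.P) ≤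
          (X.Fil (m + n)).map (Algebra.TensorProduct.includeRight : X.P →ₐ[R] R₁ ⊗[R] X.P) := by
        rw [← Ideal.map_mul]
        exact Ideal.map_mono (Ideal.mul_le.2 fun a ha b hb => X.Fil_mul m n a b ha hb)
      exact h (Ideal.mul_mem_mul hx hy)
    FilK := fun m => Submodule.span (R₁ ⊗[R] X.P) ((fun v : X.K => (1 : R₁) ⊗ₜ[R] v) '' (X.FilK m))
    FilK_zero := by
      rw [X.FilK_zero, eq_top_iff]
      rintro w -
      induction w using TensorProduct.induction_on with
      | zero => exact Submodule.zero_mem _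
      | add a b ha hb => exact Submodule.add_mem _ ha hb
      | tmul r v =>
        have : r ⊗ₜ[R] v = (r ⊗ₜ[R] (1 : X.P)) • ((1 : R₁) ⊗ₜ[R] v) := by
          change _ = actHom R₁ X (r ⊗ₜ 1) (1 ⊗ₜ v)
          rw [actHom_tmul, mul_one, one_smul]
        rw [this]
        exact Submodule.smul_mem _ _ (Submodule.subset_span ⟨v, trivial, rfl⟩)
    FilK_succ := fun n => Submodule.span_mono (Set.image_mono (X.FilK_succ n))
    FilK_smul := fun a m x v hx hv => by
      refine Submodule.span_induction (p := fun v _ => x • v ∈ Submodule.span (R₁ ⊗[R] X.P)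
        ((fun v : X.K => (1 : R₁) ⊗ₜ[R] v) '' (X.FilK (a + m)))) ?_ ?_ ?_ ?_ hv
      · rintro _ ⟨v, hv, rfl⟩
        refine Submodule.span_induction (p := fun x _ => x • ((1 : R₁) ⊗ₜ[R] v) ∈
          Submodule.span (R₁ ⊗[R] X.P)
          ((fun v : X.K => (1 : R₁) ⊗ₜ[R] v) '' (X.FilK (a + m)))) ?_ ?_ ?_ ?_ hx
        · rintro _ ⟨p, hp, rfl⟩
          refine Submodule.subset_span ⟨p • v, X.FilK_smul a m p v hp hv, ?_⟩
          change _ = actHom R₁ X (1 ⊗ₜ p) (1 ⊗ₜ v)
          rw [actHom_tmul, mul_one]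
        · rw [zero_smul]; exact Submodule.zero_mem _
        · intro x y _ _ hx hy
          rw [add_smul]; exact Submodule.add_mem _ hx hy
        · intro b x _ hx
          rw [smul_assoc]; exact Submodule.smul_mem _ _ hx
      · rw [smul_zero]; exact Submodule.zero_mem _
      · intro v w _ _ hv hw
        rw [smul_add]; exact Submodule.add_mem _ hv hw
      · intro b v _ hv
        rw [smul_smul, mul_comm, ← smul_smul]; exact Submodule.smul_mem _ _ hv
    FilK_top := by
      rw [X.FilK_top, Submodule.span_eq_bot]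
      rintro _ ⟨v, hv, rfl⟩
      rw [show v = 0 from hv]
      exact TensorProduct.tmul_zero _ _
    op := opA R₁ X
    op_mem := fun i m v hv => by
      refine Submodule.span_induction (p := fun v _ => opA R₁ X i v ∈
        Submodule.span (R₁ ⊗[R] X.P)
        ((fun v : X.K => (1 : R₁) ⊗ₜ[R] v) '' (X.FilK m))) ?_ ?_ ?_ ?_ hv
      · rintro _ ⟨v, hv, rfl⟩
        exact Submodule.subset_span ⟨X.op i v, X.op_mem i m v hv, rfl⟩
      · rw [map_zero]; exact Submodule.zero_mem _
      · intro v w _ _ hv hw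
        rw [map_add]; exact Submodule.add_mem _ hv hw
      · intro b v _ hv
        rw [map_smul]; exact Submodule.smul_mem _ _ hv }

end alg

/-- the pull-back of `X` along `f` -/
noncomputable def bc (X : FD R I) (f : R →+* R₁) : FD R₁ I :=
  letI := f.toAlgebra
  bcA R₁ X

section can

variable (X : FD R I) (f : R →+* R₁)

/-- the canonical map of the modules -/
noncomputable def canK : X.K →ₛₗ[f] (bc X f).K :=
  letI := f.toAlgebra
  { toFun := fun v => (1 : R₁) ⊗ₜ[R] v
    map_add' := fun v w => TensorProduct.tmul_add _ _ _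
    map_smul' := fun r v => by
      change (1 : R₁) ⊗ₜ[R] (r • v) = (f r) • ((1 : R₁) ⊗ₜ[R] v)
      rw [TensorProduct.tmul_smul, TensorProduct.smul_tmul', TensorProduct.smul_tmul']
      rfl }

/-- the canonical map of the rings -/
noncomputable def canP : X.P →+* (bc X f).P :=
  letI := f.toAlgebra
  (Algebra.TensorProduct.includeRight : X.P →ₐ[R] R₁ ⊗[R] X.P).toRingHom

theorem canP_algebraMap (r : R) :
    canP X f (algebraMap R X.P r) = algebraMap R₁ (bc X f).P (f r) := by
  letI := f.toAlgebra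
  change (1 : R₁) ⊗ₜ[R] (algebraMap R X.P r) = (algebraMap R R₁ r) ⊗ₜ[R] (1 : X.P)
  rw [Algebra.algebraMap_eq_smul_one, Algebra.algebraMap_eq_smul_one, TensorProduct.tmul_smul,
    TensorProduct.smul_tmul']

theorem canK_smul (p : X.P) (v : X.K) : canK X f (p • v) = canP X f p • canK X f v := by
  letI := f.toAlgebra
  change (1 : R₁) ⊗ₜ[R] (p • v) = actHom R₁ X (1 ⊗ₜ p) (1 ⊗ₜ v)
  rw [actHom_tmul, mul_one]

theorem op_canK (i : I) (v : X.K) : (bc X f).op i (canK X f v) = canK X f (X.op i v) := rfl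

theorem bc_k : (bc X f).k = X.k := rfl

theorem Fil_bc (n : ℕ) : (bc X f).Fil n = (X.Fil n).map (canP X f) := rfl

theorem FilK_bc (m : ℕ) :
    (bc X f).FilK m = Submodule.span (bc X f).P (canK X f '' (X.FilK m)) := rfl

theorem canP_mem {n : ℕ} {p : X.P} (h : p ∈ X.Fil n) : canP X f p ∈ (bc X f).Fil n := by
  rw [Fil_bc]
  exact Ideal.mem_map_of_mem _ h

theorem canK_mem {n : ℕ} {v : X.K} (h : v ∈ X.FilK n) : canK X f v ∈ (bc X f).FilK n := by
  rw [FilK_bc]
  exact Submodule.subset_span ⟨v, h, rfl⟩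

/-- induction on the elements of the pulled back module -/
theorem indK {motive : (bc X f).K → Prop} (h0 : motive 0)
    (h1 : ∀ (r : R₁) (v : X.K), motive (r • canK X f v))
    (h2 : ∀ a b, motive a → motive b → motive (a + b)) (w : (bc X f).K) : motive w := by
  letI := f.toAlgebra
  induction w using TensorProduct.induction_on with
  | zero => exact h0
  | add a b ha hb => exact h2 _ _ ha hb
  | tmul r v =>
    have : (r ⊗ₜ[R] v : R₁ ⊗[R] X.K) = r • ((1 : R₁) ⊗ₜ[R] v) := by
      rw [TensorProduct.smul_tmul', smul_eq_mul, mul_one]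
    have h := h1 r v
    change motive (r • ((1 : R₁) ⊗ₜ[R] v)) at h
    rw [this]
    exact h

/-- induction on the elements of the pulled back ring -/
theorem indP {motive : (bc X f).P → Prop} (h0 : motive 0)
    (h1 : ∀ (r : R₁) (v : X.P), motive (r • canP X f v))
    (h2 : ∀ a b, motive a → motive b → motive (a + b)) (w : (bc X f).P) : motive w := by
  letI := f.toAlgebra
  induction w using TensorProduct.induction_on with
  | zero => exact h0
  | add a b ha hb => exact h2 _ _ ha hb
  | tmul r v =>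
    have : (r ⊗ₜ[R] v : R₁ ⊗[R] X.P) = r • ((1 : R₁) ⊗ₜ[R] v) := by
      rw [TensorProduct.smul_tmul', smul_eq_mul, mul_one]
    have h := h1 r v
    change motive (r • ((1 : R₁) ⊗ₜ[R] v)) at h
    rw [this]
    exact h

/-- the universal property of the pulled back module -/
noncomputable def liftK {N : Type v} [AddCommGroup N] [Module R₁ N] (L : X.K →ₛₗ[f] N) :
    (bc X f).K →ₗ[R₁] N :=
  letI := f.toAlgebra
  letI : Module R N := Module.compHom N f
  haveI : IsScalarTower R R₁ N := ⟨fun r s n => by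
    change (f r * s) • n = f r • (s • n)
    rw [mul_smul]⟩
  LinearMap.liftBaseChange R₁
    { toFun := L
      map_add' := map_add L
      map_smul' := fun r v => by
        rw [map_smulₛₗ]
        rfl }

theorem liftK_canK {N : Type v} [AddCommGroup N] [Module R₁ N] (L : X.K →ₛₗ[f] N) (v : X.K) :
    liftK X f L (canK X f v) = L v := by
  letI := f.toAlgebra
  letI : Module R N := Module.compHom N f
  haveI : IsScalarTower R R₁ N := ⟨fun r s n => by
    change (f r * s) • n = f r • (s • n)
    rw [mul_smul]⟩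
  change (1 : R₁) • (L v) = L v
  rw [one_smul]

theorem hom_ext {σ : R₁ →+* R₂} {N : Type v} [AddCommGroup N] [Module R₂ N]
    {L M : (bc X f).K →ₛₗ[σ] N} (h : ∀ v, L (canK X f v) = M (canK X f v)) : L = M := by
  ext w
  induction w using indK with
  | h0 => rw [map_zero, map_zero]
  | h1 r v => rw [map_smulₛₗ, map_smulₛₗ, h]
  | h2 a b ha hb => rw [map_add, map_add, ha, hb]

theorem ring_ext {S : Type v} [CommRing S] {L M : (bc X f).P →+* S}
    (h : ∀ v, L (canP X f v) = M (canP X f v))
    (h' : ∀ r : R₁, L (algebraMap R₁ _ r) = M (algebraMap R₁ _ r)) : L = M := by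
  ext w
  induction w using indP with
  | h0 => rw [map_zero, map_zero]
  | h1 r v => rw [Algebra.smul_def, map_mul, map_mul, h, h']
  | h2 a b ha hb => rw [map_add, map_add, ha, hb]

/-- the universal property of the pulled back ring -/
noncomputable def liftP {S : Type v} [CommRing S] [Algebra R₁ S] (φ : X.P →+* S)
    (h : ∀ r, φ (algebraMap R X.P r) = algebraMap R₁ S (f r)) : (bc X f).P →ₐ[R₁] S :=
  letI := f.toAlgebra
  letI : Algebra R S := ((algebraMap R₁ S).comp f).toAlgebra
  haveI : IsScalarTower R R₁ S := IsScalarTower.of_algebraMap_eq fun r => rfl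
  Algebra.TensorProduct.lift (Algebra.ofId R₁ S) ({ φ with commutes' := h } : X.P →ₐ[R] S)
    (fun _ _ => Commute.all _ _)

theorem liftP_canP {S : Type v} [CommRing S] [Algebra R₁ S] (φ : X.P →+* S)
    (h : ∀ r, φ (algebraMap R X.P r) = algebraMap R₁ S (f r)) (p : X.P) :
    liftP X f φ h (canP X f p) = φ p := by
  letI := f.toAlgebra
  letI : Algebra R S := ((algebraMap R₁ S).comp f).toAlgebra
  haveI : IsScalarTower R R₁ S := IsScalarTower.of_algebraMap_eq fun r => rfl
  have := Algebra.TensorProduct.lift_tmul (Algebra.ofId R₁ S)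
    ({ φ with commutes' := h } : X.P →ₐ[R] S) (fun _ _ => Commute.all _ _) 1 p
  rw [map_one, one_mul] at this
  exact this

end can

theorem smul_smul_mul (Y : FD R I) (r s : R) (x : Y.P) (v : Y.K) :
    (r • x) • (s • v) = (r * s) • (x • v) := by
  rw [← algebraMap_smul Y.P s v, ← algebraMap_smul Y.P (r * s) (x • v), smul_smul, smul_smul,
    Algebra.smul_def, map_mul]
  congr 1
  ring

/-! ### comparison of the pull-backs along `f : R → R₁` and `f' = g ∘ f : R → R₂` -/

section tr

variable (X : FD R I) {f : R →+* R₁} {f' : R →+* R₂} {f'' : R →+* R₃} (g : R₁ →+* R₂)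
  (h : g.comp f = f') (g' : R₂ →+* R₃) (h' : g'.comp f' = f'')

/-- the comparison of the modules -/
noncomputable def tr : (bc X f).K →ₛₗ[g] (bc X f').K :=
  letI : Module R₁ (bc X f').K := Module.compHom _ g
  let T : (bc X f).K →ₗ[R₁] (bc X f').K := liftK X f
    { toFun := canK X f'
      map_add' := map_add _
      map_smul' := fun r v => by
        rw [map_smulₛₗ]
        exact congrArg (fun t => t • canK X f' v) (RingHom.congr_fun h r).symm }
  { toFun := T
    map_add' := map_add T
    map_smul' := fun r v => map_smul T r v }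

/-- the comparison of the rings -/
noncomputable def trP : (bc X f).P →+* (bc X f').P :=
  letI : Algebra R₁ (bc X f').P := ((algebraMap R₂ (bc X f').P).comp g).toAlgebra
  (liftP X f (S := (bc X f').P) (canP X f') (fun r => by
    rw [canP_algebraMap]
    exact congrArg (algebraMap R₂ (bc X f').P) (RingHom.congr_fun h r).symm)).toRingHom

@[simp] theorem tr_canK (v : X.K) : tr X g h (canK X f v) = canK X f' v :=
  letI : Module R₁ (bc X f').K := Module.compHom _ g
  liftK_canK X f _ v

@[simp] theorem trP_canP (p : X.P) : trP X g h (canP X f p) = canP X f' p :=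
  letI : Algebra R₁ (bc X f').P := ((algebraMap R₂ (bc X f').P).comp g).toAlgebra
  liftP_canP X f (canP X f') _ p

@[simp] theorem trP_algebraMap (r : R₁) :
    trP X g h (algebraMap R₁ (bc X f).P r) = algebraMap R₂ (bc X f').P (g r) :=
  letI : Algebra R₁ (bc X f').P := ((algebraMap R₂ (bc X f').P).comp g).toAlgebra
  (liftP X f (S := (bc X f').P) (canP X f') (fun r => by
    rw [canP_algebraMap]
    exact congrArg (algebraMap R₂ (bc X f').P) (RingHom.congr_fun h r).symm)).commutes r

theorem trP_smul (r : R₁) (x : (bc X f).P) : trP X g h (r • x) = g r • trP X g h x := by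
  rw [Algebra.smul_def, map_mul, trP_algebraMap, Algebra.smul_def]

theorem tr_smul (x : (bc X f).P) (v : (bc X f).K) :
    tr X g h (x • v) = trP X g h x • tr X g h v := by
  induction v using indK with
  | h0 => simp
  | h2 a b ha hb => rw [smul_add, map_add, map_add, smul_add, ha, hb]
  | h1 s v =>
    induction x using indP with
    | h0 => simp
    | h2 a b ha hb => rw [add_smul, map_add, map_add, add_smul, ha, hb]
    | h1 r p =>
      rw [smul_smul_mul, ← canK_smul, map_smulₛₗ, tr_canK, trP_smul, trP_canP,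
        (tr X g h).map_smulₛₗ s, tr_canK, smul_smul_mul, canK_smul, map_mul]

@[simp] theorem tr_tr (v : (bc X f).K) : tr X g' h' (tr X g h v) =
    tr X (g'.comp g) (by rw [RingHom.comp_assoc, h, h']) v := by
  induction v using indK with
  | h0 => simp
  | h2 a b ha hb => simp only [map_add, ha, hb]
  | h1 s v => simp only [map_smulₛₗ, tr_canK]; rfl

@[simp] theorem trP_trP (v : (bc X f).P) : trP X g' h' (trP X g h v) =
    trP X (g'.comp g) (by rw [RingHom.comp_assoc, h, h']) v := by
  induction v using indP with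
  | h0 => simp
  | h2 a b ha hb => simp only [map_add, ha, hb]
  | h1 s v => simp only [trP_smul, trP_canP]; rfl

@[simp] theorem tr_id (v : (bc X f).K) (e : (RingHom.id R₁).comp f = f) :
    tr X (RingHom.id R₁) e v = v := by
  induction v using indK with
  | h0 => simp
  | h2 a b ha hb => simp only [map_add, ha, hb]
  | h1 s v => simp only [map_smulₛₗ, tr_canK]; rfl

@[simp] theorem trP_id (v : (bc X f).P) (e : (RingHom.id R₁).comp f = f) :
    trP X (RingHom.id R₁) e v = v := by
  induction v using indP with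
  | h0 => simp
  | h2 a b ha hb => simp only [map_add, ha, hb]
  | h1 s v => simp only [trP_smul, trP_canP]; rfl

theorem op_tr (i : I) (v : (bc X f).K) :
    (bc X f').op i (tr X g h v) = tr X g h ((bc X f).op i v) := by
  induction v using indK with
  | h0 => simp
  | h2 a b ha hb => simp only [map_add, ha, hb]
  | h1 s v =>
    have e1 : ∀ (r : R₂) (w : (bc X f').K), (bc X f').op i (r • w) = r • (bc X f').op i w :=
      fun r w => by rw [← algebraMap_smul (bc X f').P r w, map_smul, algebraMap_smul]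
    have e2 : ∀ (r : R₁) (w : (bc X f).K), (bc X f).op i (r • w) = r • (bc X f).op i w :=
      fun r w => by rw [← algebraMap_smul (bc X f).P r w, map_smul, algebraMap_smul]
    rw [map_smulₛₗ, tr_canK, e1, op_canK, e2, op_canK, map_smulₛₗ, tr_canK]

/-- induction over `(bc X f').K` through `tr` -/
theorem ind_tr {motive : (bc X f').K → Prop} (h0 : motive 0)
    (h1 : ∀ (r : R₂) (v : (bc X f).K), motive (r • tr X g h v))
    (h2 : ∀ a b, motive a → motive b → motive (a + b)) (w : (bc X f').K) : motive w := by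
  induction w using indK with
  | h0 => exact h0
  | h2 a b ha hb => exact h2 a b ha hb
  | h1 r v => rw [← tr_canK X g h]; exact h1 _ _

/-- induction over `(bc X f').P` through `trP` -/
theorem ind_trP {motive : (bc X f').P → Prop} (h0 : motive 0)
    (h1 : ∀ (r : R₂) (v : (bc X f).P), motive (r • trP X g h v))
    (h2 : ∀ a b, motive a → motive b → motive (a + b)) (w : (bc X f').P) : motive w := by
  induction w using indP with
  | h0 => exact h0
  | h2 a b ha hb => exact h2 a b ha hb
  | h1 r v => rw [← trP_canP X g h]; exact h1 _ _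

theorem Fil_tr (n : ℕ) : (bc X f').Fil n = ((bc X f).Fil n).map (trP X g h) := by
  rw [Fil_bc, Fil_bc, Ideal.map_map]
  congr 1
  ext p
  simp

theorem FilK_tr (m : ℕ) : (bc X f').FilK m =
    Submodule.span (bc X f').P (tr X g h '' ((bc X f).FilK m)) := by
  apply le_antisymm
  · rw [FilK_bc, Submodule.span_le]
    rintro _ ⟨v, hv, rfl⟩
    exact Submodule.subset_span ⟨canK X f v, canK_mem X f hv, tr_canK X g h v⟩
  · rw [Submodule.span_le]
    rintro _ ⟨v, hv, rfl⟩
    rw [FilK_bc] at hv
    refine Submodule.span_induction (p := fun v _ => tr X g h v ∈ (bc X f').FilK m) ?_ ?_ ?_ ?_ hv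
    · rintro _ ⟨v, hv, rfl⟩
      rw [tr_canK]
      exact canK_mem X f' hv
    · rw [map_zero]; exact Submodule.zero_mem _
    · intro a b _ _ ha hb
      rw [map_add]; exact Submodule.add_mem _ ha hb
    · intro a b _ hb
      rw [tr_smul]; exact Submodule.smul_mem _ _ hb

theorem tr_mem {m : ℕ} {v : (bc X f).K} (hv : v ∈ (bc X f).FilK m) :
    tr X g h v ∈ (bc X f').FilK m := by
  rw [FilK_tr X g h]
  exact Submodule.subset_span ⟨v, hv, rfl⟩

theorem trP_mem {m : ℕ} {v : (bc X f).P} (hv : v ∈ (bc X f).Fil m) :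
    trP X g h v ∈ (bc X f').Fil m := by
  rw [Fil_tr X g h]
  exact Ideal.mem_map_of_mem _ hv

theorem smulR_mem {m : ℕ} (r : R₁) {v : (bc X f).K} (hv : v ∈ (bc X f).FilK m) :
    r • v ∈ (bc X f).FilK m := by
  rw [← algebraMap_smul (bc X f).P r v]
  exact Submodule.smul_mem _ _ hv

theorem FilK_ind {m : ℕ} {motive : (bc X f').K → Prop} (h0 : motive 0)
    (h1 : ∀ (r : R₂) (v : (bc X f).K), v ∈ (bc X f).FilK m → motive (r • tr X g h v))
    (h2 : ∀ a b, motive a → motive b → motive (a + b)) (w : (bc X f').K)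
    (hw : w ∈ (bc X f').FilK m) : motive w := by
  rw [FilK_tr X g h] at hw
  -- strengthen: the motive holds for all `r • x • w`
  suffices H : ∀ (x : (bc X f').P), motive (x • w) by simpa using H 1
  refine Submodule.span_induction (p := fun w _ => ∀ (x : (bc X f').P), motive (x • w))
    ?_ ?_ ?_ ?_ hw
  · rintro _ ⟨v, hv, rfl⟩ x
    induction x using ind_trP X g h with
    | h0 => rw [zero_smul]; exact h0
    | h2 a b ha hb => rw [add_smul]; exact h2 _ _ ha hb
    | h1 r p =>
      rw [smul_assoc, ← tr_smul]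
      exact h1 r _ (Submodule.smul_mem _ _ hv)
  · intro x; rw [smul_zero]; exact h0
  · intro a b _ _ ha hb x
    rw [smul_add]; exact h2 _ _ (ha x) (hb x)
  · intro a b _ hb x
    rw [smul_smul]; exact hb _

theorem hom_ext_tr {σ : R₂ →+* R₃} {N : Type v} [AddCommGroup N] [Module R₃ N]
    {L M : (bc X f').K →ₛₗ[σ] N} (H : ∀ v, L (tr X g h v) = M (tr X g h v)) : L = M := by
  apply hom_ext
  intro v
  rw [← tr_canK X g h]
  exact H _

/-- unique extension of `g`-semilinear maps -/
noncomputable def extK {N : Type v} [AddCommGroup N] [Module R₂ N] (L : (bc X f).K →ₛₗ[g] N) :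
    (bc X f').K →ₗ[R₂] N :=
  haveI : RingHomCompTriple f g f' := ⟨h⟩
  liftK X f' (L.comp (canK X f))

@[simp] theorem extK_tr {N : Type v} [AddCommGroup N] [Module R₂ N] (L : (bc X f).K →ₛₗ[g] N)
    (v : (bc X f).K) : extK X g h L (tr X g h v) = L v := by
  induction v using indK with
  | h0 => simp
  | h2 a b ha hb => simp only [map_add, ha, hb]
  | h1 s v =>
    rw [map_smulₛₗ, map_smul, tr_canK, map_smulₛₗ]
    congr 1
    haveI : RingHomCompTriple f g f' := ⟨h⟩
    exact liftK_canK X f' _ v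

end tr

/-! ### pull-back of linear maps between pull-backs -/

section bcHom

variable (X Y Z : FD R I) {f u w : R →+* R₁} {f' u' w' : R →+* R₂} {f'' u'' : R →+* R₃}
  (g : R₁ →+* R₂) (h : g.comp f = f') (e : g.comp u = u') (e₂ : g.comp w = w')
  (g' : R₂ →+* R₃) (h' : g'.comp f' = f'') (e' : g'.comp u' = u'')

/-- the pull-back of a linear map along `g` -/
noncomputable def bcHom (L : (bc X f).K →ₗ[R₁] (bc Y u).K) :
    (bc X f').K →ₗ[R₂] (bc Y u').K :=
  extK X g h ((tr Y g e).comp L)

@[simp] theorem bcHom_tr (L : (bc X f).K →ₗ[R₁] (bc Y u).K) (v : (bc X f).K) :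
    bcHom X Y g h e L (tr X g h v) = tr Y g e (L v) :=
  extK_tr X g h _ v

/-- the characterization of `bcHom` -/
theorem eq_bcHom (L : (bc X f).K →ₗ[R₁] (bc Y u).K) (M : (bc X f').K →ₗ[R₂] (bc Y u').K)
    (H : ∀ v, M (tr X g h v) = tr Y g e (L v)) : M = bcHom X Y g h e L := by
  apply hom_ext_tr X g h
  intro v
  rw [H, bcHom_tr]

@[simp] theorem bcHom_id : bcHom X X g h h LinearMap.id = LinearMap.id := by
  symm
  apply eq_bcHom
  intro v
  rw [LinearMap.id_apply, LinearMap.id_apply]

theorem bcHom_comp (M : (bc Y u).K →ₗ[R₁] (bc Z w).K) (L : (bc X f).K →ₗ[R₁] (bc Y u).K) :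
    bcHom X Z g h e₂ (M ∘ₗ L) = bcHom Y Z g e e₂ M ∘ₗ bcHom X Y g h e L :=
  (eq_bcHom _ _ _ _ _ _ _ fun v => by simp).symm

theorem bcHom_add (M L : (bc X f).K →ₗ[R₁] (bc Y u).K) :
    bcHom X Y g h e (M + L) = bcHom X Y g h e M + bcHom X Y g h e L :=
  (eq_bcHom _ _ _ _ _ _ _ fun v => by simp).symm

theorem bcHom_sub (M L : (bc X f).K →ₗ[R₁] (bc Y u).K) :
    bcHom X Y g h e (M - L) = bcHom X Y g h e M - bcHom X Y g h e L :=
  (eq_bcHom _ _ _ _ _ _ _ fun v => by simp).symm

theorem bcHom_zero : bcHom X Y g h e (0 : (bc X f).K →ₗ[R₁] (bc Y u).K) = 0 :=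
  (eq_bcHom _ _ _ _ _ _ _ fun v => by simp).symm

theorem bcHom_neg (L : (bc X f).K →ₗ[R₁] (bc Y u).K) :
    bcHom X Y g h e (-L) = - bcHom X Y g h e L :=
  (eq_bcHom _ _ _ _ _ _ _ fun v => by simp).symm

theorem bcHom_smul (r : R₁) (L : (bc X f).K →ₗ[R₁] (bc Y u).K) :
    bcHom X Y g h e (r • L) = g r • bcHom X Y g h e L :=
  (eq_bcHom _ _ _ _ _ _ _ fun v => by simp).symm

/-- strict functoriality -/
theorem bcHom_bcHom {g'' : R₁ →+* R₃} (hg : g'' = g'.comp g) (h'' : g''.comp f = f'')
    (e'' : g''.comp u = u'') (L : (bc X f).K →ₗ[R₁] (bc Y u).K) :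
    bcHom X Y g' h' e' (bcHom X Y g h e L) = bcHom X Y g'' h'' e'' L := by
  subst hg
  apply eq_bcHom
  intro v
  rw [← tr_tr X g h g' h', bcHom_tr, bcHom_tr, tr_tr]

theorem bcHom_idRing (h : (RingHom.id R₁).comp f = f) (e : (RingHom.id R₁).comp u = u)
    (L : (bc X f).K →ₗ[R₁] (bc Y u).K) : bcHom X Y (RingHom.id R₁) h e L = L := by
  symm
  apply eq_bcHom
  intro v
  rw [tr_id, tr_id]

/-- the pull-back of a linear equivalence -/
noncomputable def bcEquiv (L : (bc X f).K ≃ₗ[R₁] (bc Y u).K) :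
    (bc X f').K ≃ₗ[R₂] (bc Y u').K :=
  LinearEquiv.ofLinearMap (bcHom X Y g h e L) (bcHom Y X g e h L.symm)
    (by rw [← bcHom_comp, LinearEquiv.comp_coe, LinearEquiv.symm_trans_self]; simp)
    (by rw [← bcHom_comp, LinearEquiv.comp_coe, LinearEquiv.self_trans_symm]; simp)

@[simp] theorem bcEquiv_coe (L : (bc X f).K ≃ₗ[R₁] (bc Y u).K) :
    (bcEquiv X Y g h e L : (bc X f').K →ₗ[R₂] (bc Y u').K) = bcHom X Y g h e L := rfl

@[simp] theorem bcEquiv_tr (L : (bc X f).K ≃ₗ[R₁] (bc Y u).K) (v : (bc X f).K) :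
    bcEquiv X Y g h e L (tr X g h v) = tr Y g e (L v) := bcHom_tr X Y g h e _ v

theorem bcEquiv_symm (L : (bc X f).K ≃ₗ[R₁] (bc Y u).K) :
    (bcEquiv X Y g h e L).symm = bcEquiv Y X g e h L.symm := rfl

theorem bcEquiv_trans (L : (bc X f).K ≃ₗ[R₁] (bc Y u).K) (M : (bc Y u).K ≃ₗ[R₁] (bc Z w).K) :
    bcEquiv X Z g h e₂ (L.trans M) = (bcEquiv X Y g h e L).trans (bcEquiv Y Z g e e₂ M) := by
  apply LinearEquiv.toLinearMap_injective
  rw [bcEquiv_coe, LinearEquiv.coe_trans, bcHom_comp X Y Z g h e e₂, LinearEquiv.coe_trans]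
  rfl

theorem bcEquiv_refl : bcEquiv X X g h h (LinearEquiv.refl R₁ _) = LinearEquiv.refl R₂ _ := by
  apply LinearEquiv.toLinearMap_injective
  exact bcHom_id X g h

theorem bcEquiv_bcEquiv {g'' : R₁ →+* R₃} (hg : g'' = g'.comp g) (h'' : g''.comp f = f'')
    (e'' : g''.comp u = u'') (L : (bc X f).K ≃ₗ[R₁] (bc Y u).K) :
    bcEquiv X Y g' h' e' (bcEquiv X Y g h e L) = bcEquiv X Y g'' h'' e'' L := by
  apply LinearEquiv.toLinearMap_injective
  exact bcHom_bcHom X Y g h e g' h' e' hg h'' e'' L

theorem bcEquiv_idRing (h : (RingHom.id R₁).comp f = f) (e : (RingHom.id R₁).comp u = u)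
    (L : (bc X f).K ≃ₗ[R₁] (bc Y u).K) : bcEquiv X Y (RingHom.id R₁) h e L = L := by
  apply LinearEquiv.toLinearMap_injective
  exact bcHom_idRing X Y h e L

/-- the conjugate of a pulled back operator -/
theorem bc_conj (L : (bc X f).K ≃ₗ[R₁] (bc Y u).K) (M : (bc X f).K →ₗ[R₁] (bc X f).K) :
    (bcEquiv X Y g h e L).conj (bcHom X X g h h M) = bcHom Y Y g e e (L.conj M) := by
  apply eq_bcHom
  intro v
  rw [LinearEquiv.conj_apply_apply, LinearEquiv.conj_apply_apply, bcEquiv_symm, bcEquiv_tr,
    bcHom_tr, bcEquiv_tr]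

end bcHom

/-! ### operators -/

section DD

variable (X : FD R I) {f : R →+* R₁} {f' : R →+* R₂} (g : R₁ →+* R₂) (h : g.comp f = f')

theorem comm_bcHom (x : (bc X f).P) (L : (bc X f).K →ₗ[R₁] (bc X f).K) :
    (bc X f').comm (trP X g h x) (bcHom X X g h h L) =
      bcHom X X g h h ((bc X f).comm x L) := by
  apply eq_bcHom
  intro v
  rw [FD.comm_apply, FD.comm_apply, ← tr_smul, bcHom_tr, bcHom_tr, ← tr_smul, map_sub]

theorem smul_bcHom (x : (bc X f).P) (L : (bc X f).K →ₗ[R₁] (bc X f).K) :
    trP X g h x • (bcHom X X g h h L) = bcHom X X g h h (x • L) := by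
  apply eq_bcHom
  intro v
  rw [LinearMap.smul_apply, bcHom_tr, LinearMap.smul_apply, tr_smul]

theorem bcHom_mem_DD0 {j : ℕ} {L : (bc X f).K →ₗ[R₁] (bc X f).K} (hL : L ∈ (bc X f).DD0 j) :
    bcHom X X g h h L ∈ (bc X f').DD0 j := by
  refine ⟨fun m v hv => ?_, fun i v => ?_⟩
  · refine FilK_ind X g h (motive := fun v => bcHom X X g h h L v ∈ (bc X f').FilK (m + j))
      ?_ ?_ ?_ v hv
    · rw [map_zero]; exact Submodule.zero_mem _
    · intro r v hv
      rw [map_smul, bcHom_tr]
      exact smulR_mem X r (tr_mem X g h (hL.1 m v hv))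
    · intro a b ha hb
      rw [map_add]; exact Submodule.add_mem _ ha hb
  · induction v using ind_tr X g h with
    | h0 => simp
    | h2 a b ha hb => simp only [map_add, ha, hb]
    | h1 r v =>
      have e1 : ∀ (r : R₂) (w : (bc X f').K), (bc X f').op i (r • w) = r • (bc X f').op i w :=
        fun r w => by rw [← algebraMap_smul (bc X f').P r w, map_smul, algebraMap_smul]
      rw [e1, map_smul, op_tr, bcHom_tr, map_smul, bcHom_tr, e1, op_tr, hL.2]

theorem bcHom_mem_DDc {c j : ℕ} {L : (bc X f).K →ₗ[R₁] (bc X f).K} (hL : L ∈ (bc X f).DDc c j) :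
    bcHom X X g h h L ∈ (bc X f').DDc c j := by
  induction c generalizing j L with
  | zero => exact bcHom_mem_DD0 X g h hL
  | succ c ih =>
    rw [FD.mem_DDc_succ] at hL ⊢
    refine ⟨bcHom_mem_DD0 X g h hL.1, fun x => ?_⟩
    induction x using ind_trP X g h with
    | h0 =>
      have : (bc X f').comm 0 (bcHom X X g h h L) = 0 := by ext v; simp
      rw [this]; exact Submodule.zero_mem _
    | h2 a b ha hb =>
      have : (bc X f').comm (a + b) (bcHom X X g h h L) =
          (bc X f').comm a (bcHom X X g h h L) + (bc X f').comm b (bcHom X X g h h L) := by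
        ext v; simp [add_smul]; abel
      rw [this]; exact Submodule.add_mem _ ha hb
    | h1 r x =>
      have : (bc X f').comm (r • trP X g h x) (bcHom X X g h h L) =
          algebraMap R₂ (bc X f').P r • (bc X f').comm (trP X g h x) (bcHom X X g h h L) := by
        ext v
        simp only [FD.comm_apply, LinearMap.smul_apply, smul_assoc, map_smul, algebraMap_smul,
          smul_sub]
      rw [this, comm_bcHom]
      exact Submodule.smul_mem _ _ (ih (hL.2 x))

/-- **`DD^(j)` is compatible with pull-back.** -/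
theorem bcHom_mem_DD {j : ℕ} {L : (bc X f).K →ₗ[R₁] (bc X f).K} (hL : L ∈ (bc X f).DD j) :
    bcHom X X g h h L ∈ (bc X f').DD j := by
  rw [FD.mem_DD] at hL ⊢
  exact fun c => bcHom_mem_DDc X g h (hL c)

end DD

/-! ### semilinear isomorphisms -/

section SIso

variable {X Y Z : FD R I} {f u w : R →+* R₁} {f' u' w' : R →+* R₂}
  (g : R₁ →+* R₂) (h : g.comp f = f') (e : g.comp u = u') (e₂ : g.comp w = w')

/-- pull-back of ring homomorphisms -/
noncomputable def bcP (φ : (bc X f).P →ₐ[R₁] (bc Y u).P) : (bc X f').P →ₐ[R₂] (bc Y u').P :=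
  liftP X f' (((trP Y g e).comp (φ : (bc X f).P →+* (bc Y u).P)).comp (canP X f)) (fun r => by
    rw [RingHom.comp_apply, canP_algebraMap, RingHom.comp_apply]
    change trP Y g e (φ (algebraMap R₁ _ (f r))) = _
    rw [φ.commutes, trP_algebraMap]
    exact congrArg _ (RingHom.congr_fun h r))

@[simp] theorem bcP_trP (φ : (bc X f).P →ₐ[R₁] (bc Y u).P) (x : (bc X f).P) :
    bcP g h e φ (trP X g h x) = trP Y g e (φ x) := by
  induction x using indP with
  | h0 => simp
  | h2 a b ha hb => simp only [map_add, ha, hb]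
  | h1 r p =>
    rw [trP_smul, map_smul, trP_canP, map_smul, trP_smul]
    congr 1
    exact liftP_canP X f' _ _ p

theorem algHom_ext_trP {S : Type v} [CommRing S] [Algebra R₂ S] {L M : (bc X f').P →ₐ[R₂] S}
    (H : ∀ x, L (trP X g h x) = M (trP X g h x)) : L = M := by
  ext w
  induction w using ind_trP X g h with
  | h0 => rw [map_zero, map_zero]
  | h1 r v => rw [map_smul, map_smul, H]
  | h2 a b ha hb => rw [map_add, map_add, ha, hb]

/-- pull-back of ring isomorphisms -/
noncomputable def bcPEquiv (φ : (bc X f).P ≃ₐ[R₁] (bc Y u).P) :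
    (bc X f').P ≃ₐ[R₂] (bc Y u').P :=
  AlgEquiv.ofAlgHom (bcP g h e φ) (bcP g e h φ.symm)
    (algHom_ext_trP g e fun x => by simp)
    (algHom_ext_trP g h fun x => by simp)

@[simp] theorem bcPEquiv_trP (φ : (bc X f).P ≃ₐ[R₁] (bc Y u).P) (x : (bc X f).P) :
    bcPEquiv g h e φ (trP X g h x) = trP Y g e (φ x) := bcP_trP g h e _ x

theorem bcPEquiv_symm (φ : (bc X f).P ≃ₐ[R₁] (bc Y u).P) :
    (bcPEquiv g h e φ).symm = bcPEquiv g e h φ.symm := rfl

theorem bcEquiv_mem (s : FD.SIso (bc X f) (bc Y u)) {m : ℕ} {v : (bc X f').K}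
    (hv : v ∈ (bc X f').FilK m) : bcEquiv X Y g h e s.ψ v ∈ (bc Y u').FilK m := by
  refine FilK_ind X g h (motive := fun v => bcEquiv X Y g h e s.ψ v ∈ (bc Y u').FilK m)
    ?_ ?_ ?_ v hv
  · rw [map_zero]; exact Submodule.zero_mem _
  · intro r v hv
    rw [map_smul, bcEquiv_tr]
    exact smulR_mem Y r (tr_mem Y g e ((s.fil m v).1 hv))
  · intro a b ha hb
    rw [map_add]; exact Submodule.add_mem _ ha hb

theorem bcPEquiv_mem (s : FD.SIso (bc X f) (bc Y u)) {m : ℕ} {x : (bc X f').P}
    (hx : x ∈ (bc X f').Fil m) : bcPEquiv g h e s.φ x ∈ (bc Y u').Fil m := by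
  rw [Fil_tr X g h] at hx
  refine Submodule.span_induction (p := fun x _ => bcPEquiv g h e s.φ x ∈ (bc Y u').Fil m)
    ?_ ?_ ?_ ?_ hx
  · rintro _ ⟨x, hx, rfl⟩
    rw [bcPEquiv_trP]
    exact trP_mem Y g e ((s.filP m x).1 hx)
  · rw [map_zero]; exact Ideal.zero_mem _
  · intro a b _ _ ha hb
    rw [map_add]; exact Ideal.add_mem _ ha hb
  · intro a b _ hb
    rw [smul_eq_mul, map_mul]; exact Ideal.mul_mem_left _ _ hb

/-- **pull-back of semilinear isomorphisms** -/
noncomputable def SIso.bc (s : FD.SIso (K280.bc X f) (K280.bc Y u)) :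
    FD.SIso (K280.bc X f') (K280.bc Y u') where
  φ := bcPEquiv g h e s.φ
  ψ := bcEquiv X Y g h e s.ψ
  semi x v := by
    induction v using ind_tr X g h with
    | h0 => simp
    | h2 a b ha hb => simp only [smul_add, map_add, ha, hb]
    | h1 r v =>
      induction x using ind_trP X g h with
      | h0 => simp
      | h2 a b ha hb => simp only [add_smul, map_add, ha, hb]
      | h1 t p =>
        rw [smul_smul_mul, ← tr_smul, (bcEquiv X Y g h e s.ψ).map_smul, bcEquiv_tr, s.semi,
          map_smul (bcPEquiv g h e s.φ), bcPEquiv_trP, (bcEquiv X Y g h e s.ψ).map_smul,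
          bcEquiv_tr, smul_smul_mul, ← tr_smul]
  fil m v := by
    refine ⟨bcEquiv_mem g h e s, fun hv => ?_⟩
    have := bcEquiv_mem g e h s.symm hv
    change (bcEquiv X Y g h e s.ψ).symm _ ∈ _ at this
    rwa [LinearEquiv.symm_apply_apply] at this
  filP m x := by
    refine ⟨bcPEquiv_mem g h e s, fun hx => ?_⟩
    have := bcPEquiv_mem g e h s.symm hx
    change (bcPEquiv g h e s.φ).symm _ ∈ _ at this
    rwa [AlgEquiv.symm_apply_apply] at this
  opc i v := by
    induction v using ind_tr X g h with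
    | h0 => simp
    | h2 a b ha hb => simp only [map_add, ha, hb]
    | h1 r v =>
      have e1 : ∀ (r : R₂) (w : (K280.bc X f').K),
          (K280.bc X f').op i (r • w) = r • (K280.bc X f').op i w :=
        fun r w => by rw [← algebraMap_smul (K280.bc X f').P r w, map_smul, algebraMap_smul]
      have e2 : ∀ (r : R₂) (w : (K280.bc Y u').K),
          (K280.bc Y u').op i (r • w) = r • (K280.bc Y u').op i w :=
        fun r w => by rw [← algebraMap_smul (K280.bc Y u').P r w, map_smul, algebraMap_smul]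
      rw [e1, map_smul, op_tr, bcEquiv_tr, map_smul, bcEquiv_tr, e2, op_tr, s.opc]

end SIso

end Groth.Agent.ResProp.EF.K280
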