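import Groth.Agent.ResProp.EF.K567.WGpd
import Groth.Agent.ResProp.EF.K884.MatPt

/-!
# The interface: equivariant generators of one graded piece
-/

set_option autoImplicit false

universe u

open TensorProduct MvPolynomial

namespace Groth.Agent.ResProp.EF.K280

open Groth.Agent.ResProp.EF.K863 Groth.Agent.ResProp.EF.K980
open Groth.Agent.ResProp.EF.K964 (mBC ppMap rhoBC)
open Groth.Agent.ResProp.EF.K567 (dHom)
open Groth.Agent.ResProp.EF.K884.MatPt (IsMC)

/-- Generators `u i` of the graded piece of degree `n` of a model, on which the arrow `a` acts by the matrix `θ (M j i)`. -/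
structure GenN {k : Type u} [CommRing k] {H : Grp.Gp k} {R : Type u} [CommRing R] {D : Type u} [CommRing D] [Algebra R D]
    {V : Type u} [AddCommGroup V] [Module D V] [Module R V] [IsScalarTower R D V] {ρ : V →ₗ[D] Ω[D⁄R]}
    (m : Model R D V ρ) {R' : Type u} [CommRing R'] {x y : R →+* R'} (a : IsoDat ρ x y) (θ : H.O →+* R') (n : ℕ) where
  /-- the number of generators -/
  r : ℕ
  /-- the generators -/
  u : Fin r → m.PP
  hu : ∀ i, u i ∈ m.Fil n
  /-- the matrix comodule -/
  M : Matrix (Fin r) (Fin r) H.O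
  hM : IsMC M
  span : Submodule.span D (Set.range fun i => m.toGr n ⟨u i, hu i⟩) = ⊤
  cond : ∀ φ : (mBC x m).PP →ₐ[R'] (mBC y m).PP, IsModelHom (m := mBC x m) (m' := mBC y m) (dHom a) φ →
    ∀ i, φ (ppMap x m (u i)) - ∑ j, θ (M j i) • ppMap y m (u j) ∈ (mBC y m).Fil (n + 1)

end Groth.Agent.ResProp.EF.K280
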