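import Groth.Agent.ResProp.EF.K734.Ops

/-!
# Lifts `s ∘ (1 + T)`, `s` a semilinear isomorphism, `T ∈ DD^(1)`

Everything over one base ring.
-/

set_option autoImplicit false

universe u

namespace Groth.Agent.ResProp.EF.K280

open Groth.Agent.ResProp.EF.K734

variable {R : Type u} [CommRing R] {I : Type} {X Y Z : FD R I}

/-- the lifts over a set of semilinear isomorphisms -/
def Lset (S : Set (FD.SIso X Y)) : Set (X.K ≃ₗ[R] Y.K) :=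
  {ψ | ∃ s ∈ S, ∃ T ∈ X.DD 1, ∀ v, ψ v = s.ψ (v + T v)}

/-- `1 + U` is invertible in `1 + DD^(1)` -/
theorem exists_inv_one_add {U : X.K →ₗ[R] X.K} (hU : U ∈ X.DD 1) :
    ∃ V ∈ X.DD 1, (∀ v, (v + V v) + U (v + V v) = v) ∧ ∀ v, (v + U v) + V (v + U v) = v := by
  have hU' : U ∈ X.nfil.F 0 := hU
  obtain ⟨u, hu⟩ := X.nfil.exists_unit hU'
  have h1 : (u : Module.End R X.K) - 1 ∈ X.nfil.F 0 := by rw [hu, add_sub_cancel_left]; exact hU'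
  have h2 := X.nfil.inv_sub_one_mem h1
  refine ⟨((u⁻¹ : (Module.End R X.K)ˣ) : Module.End R X.K) - 1, h2, fun v => ?_, fun v => ?_⟩
  · have e : (u : Module.End R X.K) * ((u⁻¹ : (Module.End R X.K)ˣ) : Module.End R X.K) = 1 :=
      Units.mul_inv u
    have e' := LinearMap.congr_fun e v
    rw [hu, Module.End.mul_apply, Module.End.one_apply] at e'
    rw [LinearMap.sub_apply, Module.End.one_apply, add_sub_cancel]
    exact e'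
  · have e : ((u⁻¹ : (Module.End R X.K)ˣ) : Module.End R X.K) * (u : Module.End R X.K) = 1 :=
      Units.inv_mul u
    have e' := LinearMap.congr_fun e v
    rw [hu, Module.End.mul_apply, LinearMap.add_apply, Module.End.one_apply] at e'
    rw [LinearMap.sub_apply, Module.End.one_apply, add_sub_cancel]
    exact e'

theorem conj_symm_mem {j : ℕ} (s : FD.SIso X Y) {T : Y.K →ₗ[R] Y.K} (hT : T ∈ Y.DD j) :
    s.ψ.symm.toLinearMap ∘ₗ T ∘ₗ s.ψ.toLinearMap ∈ X.DD j := by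
  have := s.symm.conj_mem hT
  have e : s.symm.ψ.conj T = s.ψ.symm.toLinearMap ∘ₗ T ∘ₗ s.ψ.toLinearMap := by
    ext v; rfl
  rwa [e] at this

theorem DD_comp' {i j k : ℕ} {L M : X.K →ₗ[R] X.K} (hL : L ∈ X.DD i) (hM : M ∈ X.DD j)
    (h : k ≤ i + j) : L ∘ₗ M ∈ X.DD k := X.DD_le h (X.DD_comp hL hM)

/-- composition of lifts -/
theorem Lset_comp {S : Set (FD.SIso X Y)} {S' : Set (FD.SIso Y Z)} {S'' : Set (FD.SIso X Z)}
    (h : ∀ s ∈ S, ∀ t ∈ S', s.trans t ∈ S'') {ψ : X.K ≃ₗ[R] Y.K} {χ : Y.K ≃ₗ[R] Z.K}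
    (hψ : ψ ∈ Lset S) (hχ : χ ∈ Lset S') : ψ.trans χ ∈ Lset S'' := by
  obtain ⟨s, hs, T, hT, hψ⟩ := hψ
  obtain ⟨t, ht, U, hU, hχ⟩ := hχ
  set U' := s.ψ.symm.toLinearMap ∘ₗ U ∘ₗ s.ψ.toLinearMap with hU'
  have hU'm : U' ∈ X.DD 1 := conj_symm_mem s hU
  refine ⟨s.trans t, h s hs t ht, T + U' + U' ∘ₗ T, ?_, fun v => ?_⟩
  · exact (X.DD 1).add_mem ((X.DD 1).add_mem hT hU'm) (DD_comp' hU'm hT (by omega))
  · rw [LinearEquiv.trans_apply, hχ, hψ]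
    change t.ψ _ = t.ψ (s.ψ _)
    congr 1
    simp only [hU', map_add, LinearMap.add_apply, LinearMap.comp_apply, LinearEquiv.coe_coe,
      LinearEquiv.apply_symm_apply]
    abel

/-- inverse of a lift -/
theorem Lset_symm {S : Set (FD.SIso X Y)} {S' : Set (FD.SIso Y X)}
    (h : ∀ s ∈ S, s.symm ∈ S') {ψ : X.K ≃ₗ[R] Y.K} (hψ : ψ ∈ Lset S) : ψ.symm ∈ Lset S' := by
  obtain ⟨s, hs, T, hT, hψ⟩ := hψ
  obtain ⟨V, hV, hV1, hV2⟩ := exists_inv_one_add hT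
  -- `ψ⁻¹ = (1 + V) s⁻¹ = s⁻¹ (1 + s V s⁻¹)`
  refine ⟨s.symm, h s hs, s.ψ.conj V, s.conj_mem hV, fun w => ?_⟩
  apply ψ.injective
  rw [LinearEquiv.apply_symm_apply, hψ]
  change w = s.ψ (s.ψ.symm (w + s.ψ.conj V w) + T (s.ψ.symm (w + s.ψ.conj V w)))
  have e : s.ψ.symm (w + s.ψ.conj V w) = s.ψ.symm w + V (s.ψ.symm w) := by
    rw [map_add, LinearEquiv.conj_apply_apply, LinearEquiv.symm_apply_apply]
  rw [e, hV1, LinearEquiv.apply_symm_apply]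

/-- the lifts of the identity -/
theorem Lset_one {S : Set (FD.SIso X X)} (h1 : FD.SIso.refl X ∈ S)
    (h2 : ∀ s ∈ S, (∀ x, s.φ x - x ∈ X.Fil 2) ∧
      ∀ m v, v ∈ X.FilK m → s.ψ v - v ∈ X.FilK (m + 1)) (ψ : X.K ≃ₗ[R] X.K) :
    ψ ∈ Lset S ↔ ∃ T ∈ X.DD 1, ∀ v, ψ v = v + T v := by
  constructor
  · rintro ⟨s, hs, T, hT, hψ⟩
    have hU := s.sub_one_mem (h2 s hs).1 (h2 s hs).2
    set U := (s.ψ : X.K →ₗ[R] X.K) - LinearMap.id with hUdef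
    refine ⟨T + U + U ∘ₗ T, (X.DD 1).add_mem ((X.DD 1).add_mem hT hU) (DD_comp' hU hT (by omega)),
      fun v => ?_⟩
    have e : ∀ w, s.ψ w = w + U w := fun w => by
      rw [hUdef, LinearMap.sub_apply, LinearMap.id_apply, add_sub_cancel]; rfl
    rw [hψ, e]
    simp only [map_add, LinearMap.add_apply, LinearMap.comp_apply]
    abel
  · rintro ⟨T, hT, hψ⟩
    exact ⟨FD.SIso.refl X, h1, T, hT, hψ⟩

theorem Lset_op {S : Set (FD.SIso X Y)} {ψ : X.K ≃ₗ[R] Y.K} (hψ : ψ ∈ Lset S) (i : I) (v : X.K) :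
    ψ (X.op i v) = Y.op i (ψ v) := by
  obtain ⟨s, hs, T, hT, hψ⟩ := hψ
  rw [hψ, hψ, (X.DD_le_DD0 _ hT).2, ← map_add, s.opc]

theorem Lset_FilK {S : Set (FD.SIso X Y)} {ψ : X.K ≃ₗ[R] Y.K} (hψ : ψ ∈ Lset S) {n : ℕ} {v : X.K}
    (hv : v ∈ X.FilK n) : ψ v ∈ Y.FilK n := by
  obtain ⟨s, hs, T, hT, hψ⟩ := hψ
  rw [hψ, ← s.fil]
  exact (X.FilK n).add_mem hv (X.FilK_le (by omega) ((X.DD_le_DD0 _ hT).1 n v hv))

/-- conjugation by a lift, modulo higher terms, is conjugation by `s` -/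
theorem conj_lift {j : ℕ} {s : FD.SIso X Y} {T : X.K →ₗ[R] X.K} (hT : T ∈ X.DD 1)
    {ψ : X.K ≃ₗ[R] Y.K} (hψ : ∀ v, ψ v = s.ψ (v + T v)) {W : X.K →ₗ[R] X.K} (hW : W ∈ X.DD j) :
    ψ.toLinearMap ∘ₗ W ∘ₗ ψ.symm.toLinearMap - s.ψ.conj W ∈ Y.DD (j + 1) := by
  obtain ⟨V, hV, hV1, hV2⟩ := exists_inv_one_add hT
  have hsymm : ∀ w, ψ.symm w = s.ψ.symm w + V (s.ψ.symm w) := fun w => by
    apply ψ.injective
    rw [LinearEquiv.apply_symm_apply, hψ, hV1, LinearEquiv.apply_symm_apply]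
  have e : ψ.toLinearMap ∘ₗ W ∘ₗ ψ.symm.toLinearMap - s.ψ.conj W =
      s.ψ.conj (T ∘ₗ W + W ∘ₗ V + T ∘ₗ W ∘ₗ V) := by
    ext w
    simp only [LinearMap.sub_apply, LinearMap.comp_apply, LinearEquiv.coe_coe, hsymm, hψ,
      LinearEquiv.conj_apply_apply, map_add, LinearMap.add_apply]
    abel
  rw [e]
  apply s.conj_mem
  refine (X.DD _).add_mem ((X.DD _).add_mem ?_ ?_) ?_
  · exact DD_comp' hT hW (by omega)
  · exact DD_comp' hW hV (by omega)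
  · exact DD_comp' hT (DD_comp' hW hV (k := j) (by omega)) (by omega)

theorem Lset_conj {S : Set (FD.SIso X Y)} {ψ : X.K ≃ₗ[R] Y.K} (hψ : ψ ∈ Lset S) {j : ℕ}
    {W : X.K →ₗ[R] X.K} (hW : W ∈ X.DD j) :
    ψ.toLinearMap ∘ₗ W ∘ₗ ψ.symm.toLinearMap ∈ Y.DD j := by
  obtain ⟨s, hs, T, hT, hψ⟩ := hψ
  have h1 := Y.DD_succ_le _ (conj_lift hT hψ hW)
  have h2 := (Y.DD j).add_mem h1 (s.conj_mem hW)
  rwa [sub_add_cancel] at h2

/-- a lift is semilinear on the graded pieces of `K` -/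
theorem Lset_semF {S : Set (FD.SIso X Y)} {ψ : X.K ≃ₗ[R] Y.K} (hψ : ψ ∈ Lset S) {q : X.P} {q' : Y.P}
    (hq : ∀ s ∈ S, s.φ q - q' ∈ Y.Fil 1) {n : ℕ} {v : X.K} (hv : v ∈ X.FilK n) :
    ψ (q • v) - q' • ψ v ∈ Y.FilK (n + 1) := by
  obtain ⟨s, hs, T, hT, hψ⟩ := hψ
  have e : ψ (q • v) - q' • ψ v =
      (s.φ q - q') • s.ψ v + s.ψ (T (q • v)) - q' • s.ψ (T v) := by
    rw [hψ, hψ, map_add, map_add, s.semi, sub_smul, smul_add]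
    abel
  rw [e]
  have hTq := (X.DD_le_DD0 _ hT).1 n (q • v) ((X.FilK n).smul_mem q hv)
  have hTv := (X.DD_le_DD0 _ hT).1 n v hv
  refine (Y.FilK _).sub_mem ((Y.FilK _).add_mem ?_ ((s.fil _ _).1 hTq))
    ((Y.FilK _).smul_mem _ ((s.fil _ _).1 hTv))
  have := Y.FilK_smul 1 n _ _ (hq s hs) ((s.fil _ _).1 hv)
  rwa [add_comm] at this

/-- conjugation by a lift is semilinear on the graded pieces of `DD` -/
theorem Lset_semD {S : Set (FD.SIso X Y)} {ψ : X.K ≃ₗ[R] Y.K} (hψ : ψ ∈ Lset S) {q : X.P} {q' : Y.P}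
    (hq : ∀ s ∈ S, s.φ q - q' ∈ Y.Fil 1) {j : ℕ} {W : X.K →ₗ[R] X.K} (hW : W ∈ X.DD j) :
    ψ.toLinearMap ∘ₗ (q • W) ∘ₗ ψ.symm.toLinearMap -
      q' • (ψ.toLinearMap ∘ₗ W ∘ₗ ψ.symm.toLinearMap) ∈ Y.DD (j + 1) := by
  obtain ⟨s, hs, T, hT, hψ⟩ := hψ
  have h1 := conj_lift hT hψ ((X.DD j).smul_mem q hW)
  have h2 := (Y.DD (j + 1)).smul_mem q' (conj_lift hT hψ hW)
  have h3 : (s.φ q - q') • s.ψ.conj W ∈ Y.DD (j + 1) := by
    have := Y.smul_mem_DD (hq s hs) (s.conj_mem hW)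
    rwa [add_comm] at this
  have e : ψ.toLinearMap ∘ₗ (q • W) ∘ₗ ψ.symm.toLinearMap -
      q' • (ψ.toLinearMap ∘ₗ W ∘ₗ ψ.symm.toLinearMap) =
      (ψ.toLinearMap ∘ₗ (q • W) ∘ₗ ψ.symm.toLinearMap - s.ψ.conj (q • W)) -
      q' • (ψ.toLinearMap ∘ₗ W ∘ₗ ψ.symm.toLinearMap - s.ψ.conj W) +
      (s.φ q - q') • s.ψ.conj W := by
    rw [s.conj_smul, smul_sub, sub_smul]
    abel
  rw [e]
  exact (Y.DD _).add_mem ((Y.DD _).sub_mem h1 h2) h3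

end Groth.Agent.ResProp.EF.K280
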