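import Groth.Agent.ResProp.EF.K884.MatPt

/-!
# The coefficient matrix of a finite free comodule
-/

set_option autoImplicit false
set_option linter.unusedSectionVars false

universe u

open TensorProduct

noncomputable section

namespace Groth.Agent.ResProp.EF.K280

open Groth.Agent.ResProp.EF.Grp
open Groth.Agent.ResProp.EF.K884.MatPt (IsMC)

section

variable {k : Type u} [CommRing k] {V : Type u} [AddCommGroup V] [Module k V] {ι : Type} [Fintype ι]
  (b : Module.Basis ι k V)

/-- the coefficient at `b i` -/
def cf (O : Type u) [AddCommGroup O] [Module k O] (i : ι) : V ⊗[k] O →ₗ[k] O :=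
  (TensorProduct.lid k O).toLinearMap ∘ₗ (b.coord i).rTensor O

variable {O : Type u} [AddCommGroup O] [Module k O]

omit [Fintype ι] in
theorem cf_tmul (i : ι) (v : V) (o : O) : cf b O i (v ⊗ₜ o) = b.repr v i • o := rfl

theorem sum_cf (z : V ⊗[k] O) : ∑ i, b i ⊗ₜ[k] cf b O i z = z := by
  induction z using TensorProduct.induction_on with
  | zero => simp
  | add x y hx hy => simp only [map_add, TensorProduct.tmul_add, Finset.sum_add_distrib, hx, hy]
  | tmul v o =>
    simp only [cf_tmul, TensorProduct.tmul_smul, TensorProduct.smul_tmul']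
    rw [← TensorProduct.sum_tmul, b.sum_repr]

theorem cf_sum [DecidableEq ι] (x : ι → O) (i : ι) : cf b O i (∑ j, b j ⊗ₜ[k] x j) = x i := by
  rw [map_sum, Finset.sum_eq_single i]
  · rw [cf_tmul, b.repr_self, Finsupp.single_eq_same, one_smul]
  · intro j _ hj
    rw [cf_tmul, b.repr_self, Finsupp.single_eq_of_ne (Ne.symm hj), zero_smul]
  · intro h; exact absurd (Finset.mem_univ i) h

end

section

variable {k : Type u} [CommRing k] {H : Gp k} (V : GMod H) {ι : Type} [Fintype ι] [DecidableEq ι]
  (b : Module.Basis ι k V.V)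

/-- the coefficient matrix -/
def cMat : Matrix ι ι H.O := fun i j => cf b H.O i (V.co.coact (b j))

theorem coact_b (j : ι) : V.co.coact (b j) = ∑ i, b i ⊗ₜ[k] cMat V b i j := (sum_cf b _).symm

theorem isMC_cMat : IsMC (cMat V b) where
  comul i j := by
    have h := LinearMap.congr_fun V.co.coassoc (b j)
    simp only [LinearMap.comp_apply, LinearEquiv.coe_coe] at h
    have e1 : (TensorProduct.assoc k V.V H.O H.O) ((V.co.coact).rTensor H.O (V.co.coact (b j))) =
        ∑ i, b i ⊗ₜ[k] ∑ l, cMat V b i l ⊗ₜ[k] cMat V b l j := by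
      conv_lhs => rw [coact_b V b j]
      simp only [map_sum, LinearMap.rTensor_tmul]
      have : ∀ l, (TensorProduct.assoc k V.V H.O H.O) (V.co.coact (b l) ⊗ₜ[k] cMat V b l j) =
          ∑ i, b i ⊗ₜ[k] (cMat V b i l ⊗ₜ[k] cMat V b l j) := fun l => by
        conv_lhs => rw [coact_b V b l]
        rw [TensorProduct.sum_tmul, map_sum]
        rfl
      simp only [this, TensorProduct.tmul_sum]
      exact Finset.sum_comm
    have e2 : (Coalgebra.comul (R := k) (A := H.O)).lTensor V.V (V.co.coact (b j)) =
        ∑ i, b i ⊗ₜ[k] Coalgebra.comul (R := k) (cMat V b i j) := by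
      conv_lhs => rw [coact_b V b j]
      rw [map_sum]
      rfl
    have h2 := congrArg (cf b (H.O ⊗[k] H.O) i) (e1.symm.trans (h.trans e2))
    rw [cf_sum, cf_sum] at h2
    exact h2.symm
  counit i j := by
    have h := LinearMap.congr_fun V.co.counit_comp (b j)
    simp only [LinearMap.comp_apply] at h
    have e2 : (Coalgebra.counit (R := k) (A := H.O)).lTensor V.V (V.co.coact (b j)) =
        ∑ i, b i ⊗ₜ[k] Coalgebra.counit (R := k) (cMat V b i j) := by
      conv_lhs => rw [coact_b V b j]
      rw [map_sum]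
      rfl
    have h2 := congrArg (cf b k i) (e2.symm.trans h)
    rw [cf_sum] at h2
    rw [h2]
    change cf b k i (b j ⊗ₜ[k] (1 : k)) = _
    rw [cf_tmul, b.repr_self, smul_eq_mul, mul_one, Finsupp.single_apply]
    by_cases hij : i = j
    · subst hij; simp
    · rw [if_neg hij, if_neg (fun h => hij h.symm)]

end

end Groth.Agent.ResProp.EF.K280
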