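import Groth.Agent.ResProp.EF.K280.ToPkg
import Groth.Agent.ResProp.EF.K722.BCEbc

/-!
# (P6) without hypotheses: helper722's OPS-BC plugged in
-/

set_option autoImplicit false

universe u

namespace Groth.Agent.ResProp.EF.K280

open Groth.Agent.ResProp.EF.K734 Groth.Agent.ResProp.EF.K980

variable {R : Type u} [CommRing R] [IsNoetherianRing R]

theorem opsBC {I : Type} [Finite I] (X : FD R I) (hP : Algebra.FiniteType R X.P)
    (hK : Module.Finite X.P X.K) : OpsBC X := by
  haveI : IsNoetherianRing X.P := Algebra.FiniteType.isNoetherianRing R X.P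
  have hI : {i | X.op i ≠ 0}.Finite := Set.toFinite _
  exact ⟨fun x hx j T => K722.mem_opBC_iff_bc X x hI j hx T,
    fun x hx => K722.emb_inj_DD X x hI 1 hx⟩

/-- **(P6)** -/
def LiftData.toPkg {G : PGpd.{u} R} (Λ : LiftData G) : AlgPkg G :=
  Λ.toAlgPkg (opsBC Λ.X Λ.finP Λ.finK)

end Groth.Agent.ResProp.EF.K280
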