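import Groth.Agent.ResProp.EF.K980.Alg
import Groth.Agent.ResProp.EF.K280.FDbc
import Groth.Agent.ResProp.EF.K280.Lset
import Groth.Agent.ResProp.EF.K722.OpsFin

/-!
# From helper734's `FD` with sets of semilinear isomorphisms over the arrows to helper980's `AlgPkg`
-/

set_option autoImplicit false
set_option linter.style.haveILetI false

universe u v

namespace Groth.Agent.ResProp.EF.K280

open Groth.Agent.ResProp.EF.K734 Groth.Agent.ResProp.EF.K980 TensorProduct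

variable {R R' R'' : Type u} [CommRing R] [CommRing R'] [CommRing R''] {I : Type}

/-! ### `bc X x` in the language of `BC` -/

section bridge

variable (X Y : FD R I) (x : R →+* R')

/-- the identity -/
def toK (v : BC x X.K) : (K280.bc X x).K := v

/-- the identity -/
def toP (v : BC x X.P) : (K280.bc X x).P := v

@[simp] theorem toK_bc (v : X.K) : toK X x (K980.bc x v) = canK X x v := rfl

@[simp] theorem toP_bc (p : X.P) : toP X x (K980.bc x p) = canP X x p := rfl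

theorem toK_add (v w : BC x X.K) : toK X x (v + w) = toK X x v + toK X x w := rfl

theorem toK_sub (v w : BC x X.K) : toK X x (v - w) = toK X x v - toK X x w := rfl

theorem toK_smul (r : R') (v : BC x X.K) : toK X x (r • v) = r • toK X x v := rfl

theorem toK_zero : toK X x 0 = 0 := rfl

theorem toP_add (v w : BC x X.P) : toP X x (v + w) = toP X x v + toP X x w := rfl

theorem toP_sub (v w : BC x X.P) : toP X x (v - w) = toP X x v - toP X x w := rfl

theorem toP_smul (r : R') (v : BC x X.P) : toP X x (r • v) = r • toP X x v := rfl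

theorem toP_zero : toP X x 0 = 0 := rfl

theorem op_eq (i : I) (v : BC x X.K) :
    toK X x (BC.map x ((X.op i).restrictScalars R) v) = (K280.bc X x).op i (toK X x v) := by
  induction v using BC.ind with
  | h0 => rw [map_zero, toK_zero, map_zero]
  | h1 r v =>
    have e : ∀ (r : R') (w : (K280.bc X x).K), (K280.bc X x).op i (r • w) = r • (K280.bc X x).op i w :=
      fun r w => by
        rw [← algebraMap_smul (K280.bc X x).P r w, map_smul, algebraMap_smul]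
    rw [LinearMap.map_smul, BC.map_bc, toK_smul, toK_smul, e, toK_bc, toK_bc, op_canK]
    rfl
  | h2 a b ha hb => rw [map_add, toK_add, toK_add, map_add, ha, hb]

/-- induction over the filtration of the pulled back module -/
theorem FilK_ind' {m : ℕ} {motive : (K280.bc X x).K → Prop} (h0 : motive 0)
    (h1 : ∀ (r : R') (v : X.K), v ∈ X.FilK m → motive (r • canK X x v))
    (h2 : ∀ a b, motive a → motive b → motive (a + b)) (w : (K280.bc X x).K)
    (hw : w ∈ (K280.bc X x).FilK m) : motive w := by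
  rw [FilK_bc] at hw
  suffices H : ∀ (p : (K280.bc X x).P), motive (p • w) by simpa using H 1
  refine Submodule.span_induction (p := fun w _ => ∀ (p : (K280.bc X x).P), motive (p • w))
    ?_ ?_ ?_ ?_ hw
  · rintro _ ⟨v, hv, rfl⟩ p
    induction p using indP with
    | h0 => rw [zero_smul]; exact h0
    | h2 a b ha hb => rw [add_smul]; exact h2 _ _ ha hb
    | h1 r p =>
      rw [smul_assoc, ← canK_smul]
      exact h1 r _ (Submodule.smul_mem _ _ hv)
  · intro p; rw [smul_zero]; exact h0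
  · intro a b _ _ ha hb p
    rw [smul_add]; exact h2 _ _ (ha p) (hb p)
  · intro a b _ hb p
    rw [smul_smul]; exact hb _

theorem mem_subBC (n : ℕ) (v : BC x X.K) :
    v ∈ subBC x ((X.FilK n).restrictScalars R) ↔ toK X x v ∈ (K280.bc X x).FilK n := by
  constructor
  · rintro ⟨w, rfl⟩
    induction w using BC.ind with
    | h0 => rw [map_zero]; exact Submodule.zero_mem _
    | h1 r w =>
      rw [LinearMap.map_smul, BC.map_bc]
      exact smulR_mem X r (canK_mem X x w.2)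
    | h2 a b ha hb => rw [map_add]; exact Submodule.add_mem _ ha hb
  · intro hv
    refine FilK_ind' X x (motive := fun v => (show BC x X.K from v) ∈
      subBC x ((X.FilK n).restrictScalars R)) ?_ ?_ ?_ (toK X x v) hv
    · exact Submodule.zero_mem _
    · intro r v hv
      refine ⟨r • K980.bc x (⟨v, hv⟩ : (X.FilK n).restrictScalars R), ?_⟩
      rw [LinearMap.map_smul, BC.map_bc]
      rfl
    · intro a b ha hb; exact Submodule.add_mem _ ha hb

theorem bil_eq (q : BC x X.P) (v : BC x X.K) :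
    toK X x (BC.bil x (smulR R X.P X.K) q v) = toP X x q • toK X x v := by
  induction q using BC.ind with
  | h0 => rw [map_zero, LinearMap.zero_apply, toP_zero, toK_zero, zero_smul]
  | h2 a b ha hb =>
    rw [map_add, LinearMap.add_apply, toK_add, toP_add, add_smul, ha, hb]
  | h1 r q =>
    rw [LinearMap.map_smul, LinearMap.smul_apply, toP_smul, toK_smul]
    induction v using BC.ind with
    | h0 => rw [map_zero, toK_zero, smul_zero, smul_zero]
    | h2 a b ha hb =>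
      rw [map_add, toK_add, toK_add, smul_add, smul_add, ha, hb]
    | h1 s v =>
      rw [LinearMap.map_smul, BC.bil_bc, toK_smul, toK_smul, smul_smul, toP_bc, toK_bc, toK_bc,
        smul_smul_mul, ← canK_smul]
      rfl

variable {x} {x' : R →+* R''} {y : R →+* R'} {y' : R →+* R''} (f : R' →+* R'')

theorem tr_eq (hx : f.comp x = x') (v : BC x X.K) :
    toK X x' (BC.tr f hx v) = K280.tr X f hx (toK X x v) := by
  induction v using BC.ind with
  | h0 => rw [map_zero, toK_zero, toK_zero, map_zero]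
  | h2 a b ha hb => rw [map_add, toK_add, toK_add, map_add, ha, hb]
  | h1 r v => rw [LinearMap.map_smulₛₗ, BC.tr_bc, toK_smul, toK_smul, map_smulₛₗ, toK_bc, toK_bc, tr_canK]

theorem trP_eq (hx : f.comp x = x') (v : BC x X.P) :
    toP X x' (BC.tr f hx v) = K280.trP X f hx (toP X x v) := by
  induction v using BC.ind with
  | h0 => rw [map_zero, toP_zero, toP_zero, map_zero]
  | h2 a b ha hb => rw [map_add, toP_add, toP_add, map_add, ha, hb]
  | h1 r v => rw [LinearMap.map_smulₛₗ, BC.tr_bc, toP_smul, toP_smul, trP_smul, toP_bc, toP_bc, trP_canP]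

/-- a linear map in the language of `bc` -/
def toHom (L : BC x X.K →ₗ[R'] BC y Y.K) : (K280.bc X x).K →ₗ[R'] (K280.bc Y y).K := L

/-- a linear equivalence in the language of `bc` -/
def toEquiv (L : BC x X.K ≃ₗ[R'] BC y Y.K) : (K280.bc X x).K ≃ₗ[R'] (K280.bc Y y).K := L

/-- a linear equivalence in the language of `BC` -/
def ofEquiv (L : (K280.bc X x).K ≃ₗ[R'] (K280.bc Y y).K) : BC x X.K ≃ₗ[R'] BC y Y.K := L

theorem toHom_apply (L : BC x X.K →ₗ[R'] BC y Y.K) (v : BC x X.K) :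
    toHom X Y L (toK X x v) = toK Y y (L v) := rfl

theorem toEquiv_apply (L : BC x X.K ≃ₗ[R'] BC y Y.K) (v : BC x X.K) :
    toEquiv X Y L (toK X x v) = toK Y y (L v) := rfl

theorem pull_eq (hx : f.comp x = x') (hy : f.comp y = y') (L : BC x X.K →ₗ[R'] BC y Y.K) :
    toHom X Y (BC.pull f hx hy L) = bcHom X Y f hx hy (toHom X Y L) := by
  apply eq_bcHom
  intro v
  have h := BC.pull_tr hx hy L (show BC x X.K from v)
  have h2 := tr_eq X f hx (show BC x X.K from v)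
  have h3 := tr_eq Y f hy (L (show BC x X.K from v))
  change _ = K280.tr X f hx v at h2
  rw [← h2, toHom_apply, h, h3]
  rfl

theorem pullE_eq (hx : f.comp x = x') (hy : f.comp y = y') (L : BC x X.K ≃ₗ[R'] BC y Y.K) :
    toEquiv X Y (BC.pullE f hx hy L) = bcEquiv X Y f hx hy (toEquiv X Y L) := by
  apply LinearEquiv.toLinearMap_injective
  exact pull_eq X Y f hx hy L.toLinearMap

/-- the kernel of `π` over `R'` -/
theorem mem_Fil_one {D : Type u} [CommRing D] [Algebra R D] (π : X.P →ₐ[R] D)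
    (hπ : Function.Surjective π) (hk : ∀ p, π p = 0 → p ∈ X.Fil 1) (p : BC x X.P)
    (hp : BC.map x π.toLinearMap p = 0) : toP X x p ∈ (K280.bc X x).Fil 1 := by
  have hex : Function.Exact (LinearMap.ker π.toLinearMap).subtype π.toLinearMap :=
    LinearMap.exact_subtype_ker_map _
  obtain ⟨w, rfl⟩ := (BC.map_exact (x := x) hex hπ p).1 hp
  clear hp
  induction w using BC.ind with
  | h0 => rw [map_zero]; exact Ideal.zero_mem _
  | h1 r w =>
    rw [LinearMap.map_smul, BC.map_bc, toP_smul, toP_bc, Algebra.smul_def]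
    exact Ideal.mul_mem_left _ _ (canP_mem X x (hk w.1 (LinearMap.mem_ker.1 w.2)))
  | h2 a b ha hb =>
    rw [map_add, toP_add]
    exact Ideal.add_mem _ ha hb

end bridge

/-! ### finiteness of `DD` -/

theorem DD_le_Ord (X : FD R I) {c j : ℕ} (hc : X.k + 1 ≤ c + j) :
    X.DD j ≤ K722.Ord R X.P X.K X.K c := by
  induction c generalizing j with
  | zero =>
    intro L hL
    have h0 : L = 0 := X.DD_top (X.DD_le (by omega) hL)
    rw [h0]; exact Submodule.zero_mem _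
  | succ c ih =>
    intro L hL x
    have h := ih (j := j + 1) (by omega) ((X.mem_DD_iff.1 hL).2 x)
    have e : K722.comm x L = X.comm x L := by ext v; rfl
    rw [e]
    exact h

theorem DD_fg (X : FD R I) [IsNoetherianRing R] (hP : Algebra.FiniteType R X.P)
    (hK : Module.Finite X.P X.K) (j : ℕ) : (X.DD j).FG := by
  haveI : IsNoetherianRing X.P := Algebra.FiniteType.isNoetherianRing R X.P
  haveI : IsNoetherian X.P X.K := isNoetherian_of_isNoetherianRing_of_finite X.P X.K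
  haveI := K722.isNoetherian_Ord (R := R) (P := X.P) (M := X.K) (N := X.K) (X.k + 1)
  have h1 : IsNoetherian X.P (X.DD j) := isNoetherian_of_le (DD_le_Ord X (c := X.k + 1) (by omega))
  exact (isNoetherian_submodule.1 h1) _ le_rfl

theorem DD_gen (X : FD R I) [IsNoetherianRing R] (hP : Algebra.FiniteType R X.P)
    (hK : Module.Finite X.P X.K) (j : ℕ) : ∃ s : Finset (X.K →ₗ[R] X.K), (∀ S ∈ s, S ∈ X.DD j) ∧
    ∀ T ∈ X.DD j, ∃ c : (X.K →ₗ[R] X.K) → X.P, T = ∑ S ∈ s, smulR R X.P X.K (c S) ∘ₗ S := by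
  obtain ⟨s, hs⟩ := DD_fg X hP hK j
  refine ⟨s, fun S hS => hs ▸ Submodule.subset_span hS, fun T hT => ?_⟩
  rw [← hs, Submodule.mem_span_finset] at hT
  obtain ⟨c, -, hc⟩ := hT
  refine ⟨c, ?_⟩
  rw [← hc]
  refine Finset.sum_congr rfl fun S _ => ?_
  ext v
  rfl

/-! ### the input -/

/-- The input of the last step on the producer side. -/
structure LiftData (G : PGpd.{u} R) where
  e : ℕ
  X : FD R (Option (Fin (e + 1)))
  finP : Algebra.FiniteType R X.P
  finK : Module.Finite X.P X.K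
  D : Type u
  [ringD : CommRing D]
  [algD : Algebra R D]
  π : X.P →ₐ[R] D
  π_surj : Function.Surjective π
  π_ker : ∀ p, π p = 0 → p ∈ X.Fil 1
  pr_idem : ∀ i v, X.op (some i) (X.op (some i) v) = X.op (some i) v
  pr_orth : ∀ i j, i ≠ j → ∀ v, X.op (some i) (X.op (some j) v) = 0
  pr_sum : ∀ v, ∑ i, X.op (some i) v = v
  d_pr : ∀ (i : Fin e) (v : X.K), X.op none (X.op (some i.succ) v) =
    X.op (some i.castSucc) (X.op none v)
  d_pr_zero : ∀ v, X.op none (X.op (some 0) v) = 0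
  d_d : ∀ v, X.op none (X.op none v) = 0
  eta : EqAlg G D
  /-- the semilinear isomorphisms over an arrow -/
  S : ∀ {R' : Type u} [CommRing R'] {x y : R →+* R'}, G.Hom x y →
    Set (FD.SIso (K280.bc X x) (K280.bc X y))
  S_ne : ∀ {R' : Type u} [CommRing R'] {x y : R →+* R'} (a : G.Hom x y), x.Flat → y.Flat →
    (S a).Nonempty
  S_refl : ∀ {R' : Type u} [CommRing R'] (x : R →+* R'), x.Flat →
    FD.SIso.refl (K280.bc X x) ∈ S (G.id x)
  S_trans : ∀ {R' : Type u} [CommRing R'] {x y z : R →+* R'} (a : G.Hom x y) (b : G.Hom y z),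
    x.Flat → y.Flat → z.Flat → ∀ s ∈ S a, ∀ t ∈ S b, s.trans t ∈ S (G.comp a b)
  S_symm : ∀ {R' : Type u} [CommRing R'] {x y : R →+* R'} (a : G.Hom x y), x.Flat → y.Flat →
    ∀ s ∈ S a, s.symm ∈ S (G.inv a)
  S_bc : ∀ {R' R'' : Type u} [CommRing R'] [CommRing R''] (f : R' →+* R'') {x y : R →+* R'}
    {x' y' : R →+* R''} (hx : f.comp x = x') (hy : f.comp y = y') (a : G.Hom x y),
    x.Flat → y.Flat → x'.Flat → y'.Flat → ∀ s ∈ S a, SIso.bc f hx hy s ∈ S (G.pull f hx hy a)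
  S_eta : ∀ {R' : Type u} [CommRing R'] {x y : R →+* R'} (a : G.Hom x y), x.Flat → y.Flat →
    ∀ s ∈ S a, ∀ q : BC x X.P,
      eta.act a (BC.map x π.toLinearMap q) = BC.map y π.toLinearMap (s.φ (toP X x q))
  S_close : ∀ {R' : Type u} [CommRing R'] (x : R →+* R'), x.Flat → ∀ s ∈ S (G.id x),
    (∀ p, s.φ p - p ∈ (K280.bc X x).Fil 2) ∧
      ∀ m v, v ∈ (K280.bc X x).FilK m → s.ψ v - v ∈ (K280.bc X x).FilK (m + 1)

attribute [instance] LiftData.ringD LiftData.algD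

/-- flat base change of the operators (OPS-BC) -/
structure OpsBC (X : FD R I) : Prop where
  mem : ∀ {R' : Type u} [CommRing R'] (x : R →+* R'), x.Flat → ∀ (j : ℕ) (T : BC x X.K →ₗ[R'] BC x X.K),
    T ∈ opBC x ((X.DD j).restrictScalars R) ↔ toHom X X T ∈ (K280.bc X x).DD j
  inj : ∀ {R' : Type u} [CommRing R'] (x : R →+* R'), x.Flat →
    Function.Injective (fun T : BC x ((X.DD 1).restrictScalars R) =>
      BC.emb x (BC.map x ((X.DD 1).restrictScalars R).subtype T))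

namespace LiftData

variable [IsNoetherianRing R] {G : PGpd.{u} R} (Λ : LiftData G) (hO : OpsBC Λ.X)

/-- the filtered complex with its operators -/
def toOpCpx : OpCpx R where
  D := Λ.D
  Q := Λ.X.P
  π := Λ.π
  π_surj := Λ.π_surj
  finQ := Λ.finP
  K := Λ.X.K
  finK := Λ.finK
  e := Λ.e
  k := Λ.X.k
  d := Λ.X.op none
  pr := fun i => Λ.X.op (some i)
  pr_idem := fun i => LinearMap.ext fun v => Λ.pr_idem i v
  pr_orth := fun i j h => LinearMap.ext fun v => Λ.pr_orth i j h v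
  pr_sum := Λ.pr_sum
  d_pr := Λ.d_pr
  d_pr_zero := Λ.d_pr_zero
  d_d := Λ.d_d
  F := Λ.X.FilK
  F_zero := Λ.X.FilK_zero
  F_succ := Λ.X.FilK_succ
  F_last := Λ.X.FilK_top
  F_d := fun n v hv => Λ.X.op_mem none n v hv
  F_pr := fun n i v hv => Λ.X.op_mem (some i) n v hv
  F_ker := fun n q hq v hv => by
    have := Λ.X.FilK_smul 1 n q v (Λ.π_ker q hq) hv
    rwa [Nat.add_comm 1 n] at this
  DD := fun j => (Λ.X.DD j).restrictScalars R
  DD_succ := fun j => Λ.X.DD_succ_le j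
  DD_last := by
    rw [eq_bot_iff]
    intro L hL
    exact (Submodule.mem_bot R).2 (Λ.X.DD_top hL)
  DD_mul := fun i j S hS T hT => Λ.X.DD_comp hS hT
  DD_F := fun j n S hS v hv => (Λ.X.DD_le_DD0 _ hS).1 n v hv
  DD_d := fun j S hS v => (Λ.X.DD_le_DD0 _ hS).2 none v
  DD_pr := fun j S hS i v => (Λ.X.DD_le_DD0 _ hS).2 (some i) v
  DD_Q := fun j q S hS => by
    have e : smulR R Λ.X.P Λ.X.K q ∘ₗ S = q • S := by ext v; rfl
    rw [e]
    exact (Λ.X.DD j).smul_mem q hS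
  DD_ker := fun j q hq S hS => by
    have e : smulR R Λ.X.P Λ.X.K q ∘ₗ S = q • S := by ext v; rfl
    rw [e]
    have := Λ.X.smul_mem_DD (Λ.π_ker q hq) hS
    rwa [Nat.add_comm 1 j] at this
  DD_gen := DD_gen Λ.X Λ.finP Λ.finK 1
  emb_inj := fun x hx => hO.inj x hx

/-- the lifts over an arrow -/
def L {R' : Type u} [CommRing R'] {x y : R →+* R'} (a : G.Hom x y) :
    Set (BC x Λ.X.K ≃ₗ[R'] BC y Λ.X.K) :=
  {ψ | toEquiv Λ.X Λ.X ψ ∈ Lset (Λ.S a)}

section fib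

variable {R' : Type u} [CommRing R'] {x y z : R →+* R'}

theorem mem_DDx (hx : x.Flat) (j : ℕ) (T : BC x Λ.X.K →ₗ[R'] BC x Λ.X.K) :
    T ∈ (Λ.toOpCpx hO).DDx x j ↔ toHom Λ.X Λ.X T ∈ (K280.bc Λ.X x).DD j := hO.mem x hx j T

theorem mem_Fx (n : ℕ) (v : BC x Λ.X.K) :
    v ∈ (Λ.toOpCpx hO).Fx x n ↔ toK Λ.X x v ∈ (K280.bc Λ.X x).FilK n := mem_subBC Λ.X x n v

theorem actQ_eq (q : BC x Λ.X.P) (v : BC x Λ.X.K) :
    toK Λ.X x ((Λ.toOpCpx hO).actQ x q v) = toP Λ.X x q • toK Λ.X x v := bil_eq Λ.X x q v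

omit [IsNoetherianRing R] in
theorem phi_close (a : G.Hom x y) (hx : x.Flat) (hy : y.Flat) (q : BC x Λ.X.P) (q' : BC y Λ.X.P)
    (h : Λ.eta.act a (BC.map x Λ.π.toLinearMap q) = BC.map y Λ.π.toLinearMap q') :
    ∀ s ∈ Λ.S a, s.φ (toP Λ.X x q) - toP Λ.X y q' ∈ (K280.bc Λ.X y).Fil 1 := by
  intro s hs
  have h1 := Λ.S_eta a hx hy s hs q
  refine mem_Fil_one Λ.X Λ.π Λ.π_surj Λ.π_ker
    ((show BC y Λ.X.P from s.φ (toP Λ.X x q)) - q') ?_
  rw [map_sub, sub_eq_zero]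
  exact h1.symm.trans h

omit [IsNoetherianRing R] in
theorem semF (a : G.Hom x y) (hx : x.Flat) (hy : y.Flat) (ψ : BC x Λ.X.K ≃ₗ[R'] BC y Λ.X.K)
    (hψ : ψ ∈ Λ.L a) (n : ℕ) (q : BC x Λ.X.P) (q' : BC y Λ.X.P)
    (h : Λ.eta.act a (BC.map x Λ.π.toLinearMap q) = BC.map y Λ.π.toLinearMap q')
    (v : BC x Λ.X.K) (hv : v ∈ subBC x ((Λ.X.FilK n).restrictScalars R)) :
    ψ (BC.bil x (smulR R Λ.X.P Λ.X.K) q v) - BC.bil y (smulR R Λ.X.P Λ.X.K) q' (ψ v) ∈
      subBC y ((Λ.X.FilK (n + 1)).restrictScalars R) := by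
  rw [mem_subBC] at hv ⊢
  have h := Lset_semF hψ (Λ.phi_close a hx hy q q' h) hv
  rw [← bil_eq, toEquiv_apply, toEquiv_apply, ← bil_eq, ← toK_sub] at h
  exact h

omit [IsNoetherianRing R] in
theorem toHom_bil (q : BC x Λ.X.P) (T : BC x Λ.X.K →ₗ[R'] BC x Λ.X.K) :
    toHom Λ.X Λ.X (BC.bil x (smulR R Λ.X.P Λ.X.K) q ∘ₗ T) = toP Λ.X x q • toHom Λ.X Λ.X T := by
  ext w
  exact bil_eq Λ.X x q (T w)

omit [IsNoetherianRing R] in
theorem semD (a : G.Hom x y) (hx : x.Flat) (hy : y.Flat) (ψ : BC x Λ.X.K ≃ₗ[R'] BC y Λ.X.K)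
    (hψ : ψ ∈ Λ.L a) (j : ℕ) (q : BC x Λ.X.P) (q' : BC y Λ.X.P)
    (h : Λ.eta.act a (BC.map x Λ.π.toLinearMap q) = BC.map y Λ.π.toLinearMap q')
    (T : BC x Λ.X.K →ₗ[R'] BC x Λ.X.K) (hT : toHom Λ.X Λ.X T ∈ (K280.bc Λ.X x).DD j) :
    toHom Λ.X Λ.X (ψ.toLinearMap ∘ₗ (BC.bil x (smulR R Λ.X.P Λ.X.K) q ∘ₗ T) ∘ₗ ψ.symm.toLinearMap -
      BC.bil y (smulR R Λ.X.P Λ.X.K) q' ∘ₗ (ψ.toLinearMap ∘ₗ T ∘ₗ ψ.symm.toLinearMap)) ∈
      (K280.bc Λ.X y).DD (j + 1) := by
  have h := Lset_semD hψ (Λ.phi_close a hx hy q q' h) hT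
  have e1 : toHom Λ.X Λ.X (ψ.toLinearMap ∘ₗ (BC.bil x (smulR R Λ.X.P Λ.X.K) q ∘ₗ T) ∘ₗ
      ψ.symm.toLinearMap) = (toEquiv Λ.X Λ.X ψ).toLinearMap ∘ₗ (toP Λ.X x q • toHom Λ.X Λ.X T) ∘ₗ
        (toEquiv Λ.X Λ.X ψ).symm.toLinearMap := by
    rw [← toHom_bil]
    rfl
  have e2 : toHom Λ.X Λ.X (BC.bil y (smulR R Λ.X.P Λ.X.K) q' ∘ₗ
      (ψ.toLinearMap ∘ₗ T ∘ₗ ψ.symm.toLinearMap)) = toP Λ.X y q' •
      ((toEquiv Λ.X Λ.X ψ).toLinearMap ∘ₗ toHom Λ.X Λ.X T ∘ₗ
        (toEquiv Λ.X Λ.X ψ).symm.toLinearMap) := toHom_bil Λ q' _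
  rw [← e1, ← e2] at h
  exact h

end fib

omit [IsNoetherianRing R] in
theorem L_op {R' : Type u} [CommRing R'] {x y : R →+* R'} (a : G.Hom x y)
    (ψ : BC x Λ.X.K ≃ₗ[R'] BC y Λ.X.K) (hψ : ψ ∈ Λ.L a) (i : Option (Fin (Λ.e + 1)))
    (v : BC x Λ.X.K) : ψ (BC.map x ((Λ.X.op i).restrictScalars R) v) =
      BC.map y ((Λ.X.op i).restrictScalars R) (ψ v) := by
  have h := Lset_op hψ i (toK Λ.X _ v)
  rw [← op_eq, toEquiv_apply, toEquiv_apply, ← op_eq] at h
  exact h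

omit [IsNoetherianRing R] in
theorem L_bc {R' R'' : Type u} [CommRing R'] [CommRing R''] (f : R' →+* R'') {x y : R →+* R'}
    {x' y' : R →+* R''} (hx : f.comp x = x') (hy : f.comp y = y') (a : G.Hom x y)
    (fx : x.Flat) (fy : y.Flat) (fx' : x'.Flat) (fy' : y'.Flat)
    (ψ : BC x Λ.X.K ≃ₗ[R'] BC y Λ.X.K) (hψ : ψ ∈ Λ.L a) :
    BC.pullE f hx hy ψ ∈ Λ.L (G.pull f hx hy a) := by
  obtain ⟨s, hs, T, hT, h⟩ := hψ
  refine ⟨SIso.bc f hx hy s, Λ.S_bc f hx hy a fx fy fx' fy' s hs, bcHom Λ.X Λ.X f hx hx T,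
    bcHom_mem_DD Λ.X f hx hT, fun v => ?_⟩
  rw [pullE_eq]
  change bcEquiv Λ.X Λ.X f hx hy (toEquiv Λ.X Λ.X ψ) v = bcEquiv Λ.X Λ.X f hx hy s.ψ _
  induction v using ind_tr Λ.X f hx with
  | h0 => simp
  | h2 a b ha hb =>
    rw [map_add, ha, hb, map_add (bcHom Λ.X Λ.X f hx hx T), ← map_add]
    congr 1
    abel
  | h1 r v =>
    rw [map_smul, bcEquiv_tr, map_smul (bcHom Λ.X Λ.X f hx hx T), bcHom_tr, ← smul_add, ← map_add,
      h, map_smul, bcEquiv_tr]

/-- **(P6)**: the package -/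
def toAlgPkg : AlgPkg G where
  toOpCpx := Λ.toOpCpx hO
  eta := Λ.eta
  L := fun a => Λ.L a
  L_ne := fun a hx hy => by
    obtain ⟨s, hs⟩ := Λ.S_ne a hx hy
    exact ⟨ofEquiv Λ.X Λ.X s.ψ, s, hs, 0, Submodule.zero_mem _, fun v => by simp; rfl⟩
  L_one := fun x ψ hx => by
    refine (Lset_one (Λ.S_refl x hx) (Λ.S_close x hx) (toEquiv Λ.X Λ.X ψ)).trans ?_
    constructor
    · rintro ⟨T, hT, h⟩
      exact ⟨T, (Λ.mem_DDx hO hx 1 T).2 hT, h⟩
    · rintro ⟨T, hT, h⟩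
      exact ⟨toHom Λ.X Λ.X T, (Λ.mem_DDx hO hx 1 T).1 hT, h⟩
  L_comp := fun a b hx hy hz ψ hψ χ hχ =>
    Lset_comp (fun s hs t ht => Λ.S_trans a b hx hy hz s hs t ht) hψ hχ
  L_inv := fun a hx hy ψ hψ => Lset_symm (fun s hs => Λ.S_symm a hx hy s hs) hψ
  L_pull := fun f _ _ _ _ hx hy a fx fy fx' fy' ψ hψ => Λ.L_bc f hx hy a fx fy fx' fy' ψ hψ
  L_d := fun a hx hy ψ hψ v => Λ.L_op a ψ hψ none v
  L_pr := fun a hx hy ψ hψ i v => Λ.L_op a ψ hψ (some i) v
  L_F := fun a hx hy ψ hψ n v hv =>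
    (Λ.mem_Fx hO n (ψ v)).2 (Lset_FilK hψ ((Λ.mem_Fx hO n v).1 hv))
  L_conj := fun a hx hy ψ hψ j hj T hT =>
    (Λ.mem_DDx hO hy j _).2 (Lset_conj hψ ((Λ.mem_DDx hO hx j T).1 hT))
  L_semF := fun a hx hy ψ hψ n q q' hq v hv => Λ.semF a hx hy ψ hψ n q q' hq v hv
  L_semD := fun a hx hy ψ hψ j hj q q' hq T hT =>
    (Λ.mem_DDx hO hy (j + 1) _).2 (Λ.semD a hx hy ψ hψ j q q' hq T ((Λ.mem_DDx hO hx j T).1 hT))

end LiftData

end Groth.Agent.ResProp.EF.K280
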