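import Groth.Agent.ResProp.EF.K280.MCoef
import Groth.Agent.ResProp.EF.K86.KmapPt
import Groth.Agent.ResProp.EF.K413.Serre
import Groth.Agent.ResProp.EF.K964.ExModel
import Groth.Agent.ResProp.EF.K341.Dat

/-!
# 3.1 : the differentials `w i`, their matrix comodule `C` and a model, for a cover datum
-/

set_option autoImplicit false
set_option linter.unusedSectionVars false
set_option linter.style.haveILetI false

universe u

open CategoryTheory Opposite TensorProduct

noncomputable section

namespace Groth.Agent.ResProp.EF.K280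

open K784.BC K784.PM EF56 Groth.Agent.ResProp.EF.Grp Groth.Agent.ResProp.EF.Arch
open Groth.Agent.ResProp.EF.K86 (omPM omk omC omk_tower exists_V)
open Groth.Agent.ResProp.EF.K884.MatPt (IsMC)
open Groth.Agent.ResProp.EF.K863 (Model)
open Groth.Agent.ResProp.EF.K341 (rhoI rhoI_apply rhoI_single)

/-! ### adding a trivial part -/

section add

variable {k : Type u} [CommRing k] {H : Gp k} {ι κ : Type} [Fintype ι] [DecidableEq ι] [Fintype κ] [DecidableEq κ]

/-- the matrix with a trivial block -/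
def addC (κ : Type) [DecidableEq κ] (C : Matrix ι ι H.O) : Matrix (ι ⊕ κ) (ι ⊕ κ) H.O := Matrix.fromBlocks C 0 0 1

theorem isMC_addC {C : Matrix ι ι H.O} (hC : IsMC C) : IsMC (addC κ C) where
  comul i j := by
    rw [Fintype.sum_sum_type]
    rcases i with i | i <;> rcases j with j | j
    · simp only [addC, Matrix.fromBlocks_apply₁₁, Matrix.fromBlocks_apply₁₂, Matrix.fromBlocks_apply₂₁, Matrix.zero_apply,
        TensorProduct.zero_tmul, Finset.sum_const_zero, add_zero]
      exact hC.comul i j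
    · simp [addC]
    · simp [addC]
    · simp only [addC, Matrix.fromBlocks_apply₂₂, Matrix.fromBlocks_apply₁₂, Matrix.fromBlocks_apply₂₁, Matrix.zero_apply,
        TensorProduct.zero_tmul, Finset.sum_const_zero, zero_add]
      rw [Finset.sum_eq_single i]
      · rw [Matrix.one_apply_eq]
        by_cases hij : i = j
        · subst hij
          rw [Matrix.one_apply_eq]
          exact Bialgebra.comul_one
        · rw [Matrix.one_apply_ne hij, map_zero, TensorProduct.tmul_zero]
      · intro l _ hl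
        rw [Matrix.one_apply_ne (Ne.symm hl), TensorProduct.zero_tmul]
      · intro h; exact absurd (Finset.mem_univ i) h
  counit i j := by
    rcases i with i | i <;> rcases j with j | j
    · simp only [addC, Matrix.fromBlocks_apply₁₁, hC.counit, Sum.inl.injEq]
    · simp [addC]
    · simp [addC]
    · simp only [addC, Matrix.fromBlocks_apply₂₂, Sum.inr.injEq]
      by_cases hij : i = j
      · subst hij
        rw [Matrix.one_apply_eq, if_pos rfl]
        exact Bialgebra.counit_one
      · rw [Matrix.one_apply_ne hij, map_zero, if_neg hij]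

end add

section model

variable {R : Type u} [CommRing R] {D : Type u} [CommRing D] [Algebra R D]

/-- a model after adding zeros -/
theorem exists_model_rhoI [Algebra.FiniteType R D] {r : ℕ} (w : Fin r → Ω[D⁄R])
    (hw : Submodule.span D (Set.range w) = ⊤) :
    ∃ s : ℕ, Nonempty (Model R D (Fin r ⊕ Fin s → D) (rhoI (Sum.elim w fun _ => 0))) := by
  have hsurj : Function.Surjective (rhoI w) := by
    rw [← LinearMap.range_eq_top, eq_top_iff, ← hw, Submodule.span_le]
    rintro _ ⟨i, rfl⟩
    exact ⟨Pi.single i 1, rhoI_single w i⟩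
  obtain ⟨s, M, f, b, hf, hb⟩ := _root_.K964.Fil.exists_model (R := R) (Pi.basisFun D (Fin r)) (rhoI w) hsurj
  let E : ((Fin r → D) × (Fin s → D)) ≃ₗ[D] (Fin r ⊕ Fin s → D) := (LinearEquiv.sumArrowLequivProdArrow _ _ D D).symm
  refine ⟨s, ⟨{ M := M, f := f, surj := hf, b := b.map E, hb := fun i => ?_ }⟩⟩
  rw [← hb i, Module.Basis.map_apply, rhoI_apply, rhoI_apply, Fintype.sum_sum_type]
  simp only [Sum.elim_inl, Sum.elim_inr, smul_zero, Finset.sum_const_zero, add_zero]
  rfl

end model

section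

variable {k : Type u} [CommRing k] {A : NFᵒᵖ ⥤ CommRingCat.{u}} [GRF k A] {x : PrimeSpectrum (A.obj (op ⟨0⟩))}
  (c : CoverDatum k A x)

theorem serre (p : ℕ) [IsLb p k] (E : Gp k) : SerreCover E := by
  haveI := IsLb.dom (p := p) (k := k)
  haveI := IsLb.pid (p := p) (k := k)
  exact K413.serreCover E

/-- **(VD)** the differentials, their matrix comodule, a model -/
theorem exists_vdata (p : ℕ) [IsLb p k] : letI := omk c ⟨0⟩;
    ∃ (ι : Type) (_ : Fintype ι) (_ : DecidableEq ι) (w : ι → (omPM c.Y.j).obj ⟨0⟩) (C : Matrix ι ι c.H.O) (_ : IsMC C),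
      (∀ l, (omPM c.Y.j).map (pr ⟨0⟩) (w l) = (omPM c.Y.j).map (lst ⟨0⟩) (w l)) ∧
      (∀ l, (omC c ⟨0⟩).coact (w l) = ∑ m, w m ⊗ₜ[k] C m l) ∧
      Nonempty (Model (A.obj (op ⟨0⟩)) (c.Y.D.obj (op ⟨0⟩)) (ι → c.Y.D.obj (op ⟨0⟩))
        (rhoI (show ι → Ω[(c.Y.D.obj (op ⟨0⟩))⁄(A.obj (op ⟨0⟩))] from w))) := by
  letI := omk c ⟨0⟩
  haveI := omk_tower c ⟨0⟩
  obtain ⟨V, _, _, f, hf, hinv, hspan⟩ := exists_V c (serre p c.H)
  haveI := IsLb.dom (p := p) (k := k)
  let b₀ := Module.Free.chooseBasis k V.V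
  let b : Module.Basis (Fin (Fintype.card (Module.Free.ChooseBasisIndex k V.V))) k V.V := b₀.reindex (Fintype.equivFin _)
  have hft : Algebra.FiniteType (A.obj (op ⟨0⟩)) (c.Y.D.obj (op ⟨0⟩)) := c.ft
  let w : Fin (Fintype.card (Module.Free.ChooseBasisIndex k V.V)) → (omPM c.Y.j).obj ⟨0⟩ := fun i => f (b i)
  have hspan' : Submodule.span (c.Y.D.obj (op ⟨0⟩)) (Set.range w) = ⊤ := by
    rw [eq_top_iff, ← hspan, Submodule.span_le]
    rintro _ ⟨v, rfl⟩
    rw [← b.sum_repr v, map_sum]
    refine Submodule.sum_mem _ fun i _ => ?_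
    rw [map_smul, ← algebraMap_smul (c.Y.D.obj (op ⟨0⟩))]
    exact Submodule.smul_mem _ _ (Submodule.subset_span ⟨i, rfl⟩)
  obtain ⟨s, hm⟩ := exists_model_rhoI (R := A.obj (op ⟨0⟩)) (D := c.Y.D.obj (op ⟨0⟩)) w hspan'
  refine ⟨Fin _ ⊕ Fin s, inferInstance, inferInstance, Sum.elim w fun _ => 0, addC (Fin s) (cMat V b),
    isMC_addC (isMC_cMat V b), ?_, ?_, hm⟩
  · rintro (l | l)
    · exact hinv (b l)
    · exact (map_zero _).trans (map_zero _).symm
  · rintro (l | l)
    · rw [Fintype.sum_sum_type]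
      simp only [Sum.elim_inl, Sum.elim_inr, TensorProduct.zero_tmul, Finset.sum_const_zero, add_zero]
      change (omC c ⟨0⟩).coact (f (b l)) = _
      rw [hf, coact_b V b l, map_sum]
      rfl
    · rw [Fintype.sum_sum_type]
      simp only [Sum.elim_inl, Sum.elim_inr, TensorProduct.zero_tmul, Finset.sum_const_zero, add_zero, map_zero]
      refine (Finset.sum_eq_zero fun i _ => ?_).symm
      have : addC (Fin s) (cMat V b) (Sum.inl i) (Sum.inr l) = 0 := rfl
      rw [this, TensorProduct.tmul_zero]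

end

end Groth.Agent.ResProp.EF.K280
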